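import Cfsg.Agent.SymHall.Conseq
import Mathlib

/-!
π-subgroups of alternating groups lying in no Hall π-subgroup of the exceptional shapes.
-/

set_option autoImplicit false
set_option linter.style.haveILetI false
set_option linter.unusedSectionVars false

namespace CfsgLib.SymHall

open Equiv Equiv.Perm

/-- One block of three, then blocks of two. -/
def pairLabel (n : ℕ) (x : Fin n) : Fin n :=
  ⟨if x.val < 3 then 0 else (x.val - 1) / 2, by have := x.2; split_ifs <;> omega⟩

theorem pairLabel_eq_iff {n : ℕ} {x y : Fin n} :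
    pairLabel n x = pairLabel n y ↔ (x.val < 3 ∧ y.val < 3) ∨ (3 ≤ x.val ∧ 3 ≤ y.val ∧ (x.val - 1) / 2 = (y.val - 1) / 2) := by
  rw [pairLabel, pairLabel, Fin.mk.injEq]
  split_ifs <;> omega

theorem counter_prime {π : Set ℕ} {n : ℕ} (hn : n.Prime) (h5 : 5 ≤ n) (hL : Lt π n) :
    ∃ K : Subgroup (Perm (Fin n)), K ≤ alternatingGroup (Fin n) ∧ Cfsg.IsPiSubgroup π K ∧
      ∀ f : Fin n → Bool, Case π n (Nat.card {x // f x = true}) → ¬ K ≤ blk f := by
  classical
  refine ⟨part (pairLabel n) ⊓ alternatingGroup (Fin n), inf_le_right, fun p hp hd => ?_, fun f hc hK => ?_⟩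
  · have hd := hd.trans (Subgroup.card_dvd_of_le inf_le_left)
    rw [card_part] at hd
    obtain ⟨i, -, hi⟩ := (hp.prime.dvd_finsetProd_iff _).1 hd
    have h1 := hp.dvd_factorial.1 hi
    have h2 : Nat.card {x // pairLabel n x = i} ≤ Nat.card (Fin 3) := by
      refine Nat.card_le_card_of_injective
        (fun x => (⟨if x.1.val < 3 then x.1.val else x.1.val % 2, by split_ifs <;> omega⟩ : Fin 3)) ?_
      rintro ⟨x, hx⟩ ⟨y, hy⟩ hxy
      have h := pairLabel_eq_iff.1 (hx.trans hy.symm)
      simp only [Fin.mk.injEq] at hxy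
      refine Subtype.ext (Fin.ext ?_)
      show x.val = y.val
      rcases h with ⟨ha, hb⟩ | ⟨ha, hb, hc'⟩
      · simp only [if_pos ha, if_pos hb] at hxy; exact hxy
      · simp only [if_neg (show ¬ x.val < 3 by omega), if_neg (show ¬ y.val < 3 by omega)] at hxy
        omega
    rw [Nat.card_fin] at h2
    exact (hL p hp (by omega)).2 (by omega)
  · have ha : Nat.card {x // f x = true} = 1 := by
      rcases hc with ⟨e, -, -⟩ | ⟨-, en, hT⟩ | ⟨-, e, -⟩
      · exact e
      · exfalso
        have := (hT 5 (by norm_num) h5).1 ((hL 5 (by norm_num) h5).2 (by omega))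
        omega
      · exfalso; rw [e] at hn; norm_num at hn
    obtain ⟨hsub, ⟨⟨x, hx⟩⟩⟩ := Nat.card_eq_one_iff_unique.1 ha
    have huniq : ∀ y, f y = true → y = x := fun y hy =>
      congrArg Subtype.val (hsub.elim (⟨y, hy⟩ : {z // f z = true}) ⟨x, hx⟩)
    obtain ⟨r, hr⟩ : ∃ r, n = 2 * r + 1 := by
      rcases hn.eq_two_or_odd with h | h
      · omega
      · exact ⟨n / 2, by omega⟩
    -- a partner of `x`, and a further pair
    obtain ⟨y, z, w, hyx, hzw, hxy, hzw', hzx, hzy, hwx, hwy⟩ : ∃ y z w : Fin n, y ≠ x ∧ z ≠ w ∧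
        pairLabel n x = pairLabel n y ∧ pairLabel n z = pairLabel n w ∧ z ≠ x ∧ z ≠ y ∧ w ≠ x ∧ w ≠ y := by
      have hx' := x.2
      simp only [pairLabel_eq_iff]
      simp only [ne_eq, Fin.ext_iff]
      rcases Nat.lt_or_ge x.val 3 with hx3 | hx3
      · refine ⟨⟨if x.val = 0 then 1 else 0, by split_ifs <;> omega⟩, ⟨3, by omega⟩, ⟨4, by omega⟩, ?_⟩
        dsimp only
        split_ifs <;> first | omega | (simp only [not_false_eq_true, and_true, true_and]; omega)
      · refine ⟨⟨if x.val % 2 = 1 then x.val + 1 else x.val - 1, by split_ifs <;> omega⟩, ⟨0, by omega⟩,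
          ⟨1, by omega⟩, ?_⟩
        dsimp only
        split_ifs <;> first | omega | (simp only [not_false_eq_true, and_true, true_and]; omega)
    have hA : swap x y * swap z w ∈ alternatingGroup (Fin n) := by
      rw [mem_alternatingGroup, map_mul, sign_swap hyx.symm, sign_swap hzw]; decide
    have hg : swap x y * swap z w ∈ blk f := hK ⟨mul_mem (swap_mem_part hxy) (swap_mem_part hzw'), hA⟩
    obtain ⟨u, hu, hv⟩ : ∃ u, u ≠ x ∧ (swap x y * swap z w) u ≠ x := by
      by_cases h : (swap x y * swap z w) z ≠ x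
      · exact ⟨z, hzx, h⟩
      · exfalso
        push Not at h
        rw [Perm.mul_apply, swap_apply_left, swap_apply_of_ne_of_ne hwx hwy] at h
        exact hwx h
    have hgx : (swap x y * swap z w) x = y := by
      rw [Perm.mul_apply, swap_apply_of_ne_of_ne hzx.symm hwx.symm, swap_apply_left]
    have hfu : f u = false := by cases e : f u <;> [rfl; exact absurd (huniq u e) hu]
    have hfv : f ((swap x y * swap z w) u) = false := by
      cases e : f ((swap x y * swap z w) u) <;> [rfl; exact absurd (huniq _ e) hv]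
    have hfy : f y = false := by cases e : f y <;> [rfl; exact absurd (huniq y e) hyx]
    have h1 := (hg x u).1 (by rw [hgx, hfy, hfv])
    rw [hx, hfu] at h1
    exact Bool.noConfusion h1

/-- Three blocks for the small degrees. -/
def lab7 : Fin 7 → Fin 3 := ![0, 0, 0, 1, 1, 1, 2]
/-- Three blocks for degree eight. -/
def lab8 : Fin 8 → Fin 3 := ![0, 0, 0, 1, 1, 1, 2, 2]

theorem lab7_surjective : Function.Surjective lab7 := by decide
theorem lab8_surjective : Function.Surjective lab8 := by decide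

set_option maxRecDepth 100000 in
set_option synthInstance.maxSize 2000 in
set_option synthInstance.maxHeartbeats 400000 in
theorem no_set_seven : ∀ s ∈ (Finset.univ : Finset (Fin 7)).powersetCard 4,
    ¬ ((∀ x y, ((swap 0 1 * swap 1 2 : Perm (Fin 7)) x ∈ s ↔ (swap 0 1 * swap 1 2 : Perm (Fin 7)) y ∈ s) ↔
        (x ∈ s ↔ y ∈ s)) ∧
      (∀ x y, ((swap 0 3 * swap 1 4 * swap 2 5 * swap 0 1 : Perm (Fin 7)) x ∈ s ↔
          (swap 0 3 * swap 1 4 * swap 2 5 * swap 0 1 : Perm (Fin 7)) y ∈ s) ↔ (x ∈ s ↔ y ∈ s))) := by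
  decide

set_option maxRecDepth 100000 in
set_option synthInstance.maxSize 2000 in
set_option synthInstance.maxHeartbeats 400000 in
theorem no_set_eight : ∀ s ∈ (Finset.univ : Finset (Fin 8)).powersetCard 4,
    ¬ ((∀ x y, ((swap 0 1 * swap 1 2 : Perm (Fin 8)) x ∈ s ↔ (swap 0 1 * swap 1 2 : Perm (Fin 8)) y ∈ s) ↔
        (x ∈ s ↔ y ∈ s)) ∧
      (∀ x y, ((swap 3 4 * swap 4 5 : Perm (Fin 8)) x ∈ s ↔ (swap 3 4 * swap 4 5 : Perm (Fin 8)) y ∈ s) ↔
        (x ∈ s ↔ y ∈ s)) ∧
      (∀ x y, ((swap 0 1 * swap 6 7 : Perm (Fin 8)) x ∈ s ↔ (swap 0 1 * swap 6 7 : Perm (Fin 8)) y ∈ s) ↔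
        (x ∈ s ↔ y ∈ s))) := by
  decide

theorem blk_finset {n : ℕ} {f : Fin n → Bool} {g : Perm (Fin n)} (hg : g ∈ blk f) :
    ∀ x y, (g x ∈ Finset.univ.filter (fun z => f z = true) ↔ g y ∈ Finset.univ.filter (fun z => f z = true)) ↔
      (x ∈ Finset.univ.filter (fun z => f z = true) ↔ y ∈ Finset.univ.filter (fun z => f z = true)) := by
  intro x y
  simp only [Finset.mem_filter, Finset.mem_univ, true_and, ← Bool.eq_iff_iff]
  exact hg x y

theorem pi_of_lab {π : Set ℕ} {n : ℕ} (hn : 3 ≤ n) (hT : TT π n) {l : Fin n → Fin 3} (hl : Function.Surjective l)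
    (hc : ∀ i, Fintype.card {x // l x = i} ≤ 3) {K : Subgroup (Perm (Fin n))} (hK : K ≤ blk l) :
    Cfsg.IsPiSubgroup π K := by
  intro p hp hd
  have hd' := (hd.trans (Subgroup.card_dvd_of_le hK)).trans (card_blk_dvd hl)
  rw [card_part, Fintype.card_fin] at hd'
  have hp3 : p ≤ 3 := by
    rcases hp.dvd_mul.1 hd' with h | h
    · exact hp.dvd_factorial.1 h
    · obtain ⟨i, -, hi⟩ := (hp.prime.dvd_finsetProd_iff _).1 h
      have := hp.dvd_factorial.1 hi
      rw [Nat.card_eq_fintype_card] at this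
      exact this.trans (hc i)
  have := hp.two_le
  exact (hT p hp (by omega)).2 (by omega)

theorem counter_seven {π : Set ℕ} (hT : TT π 7) :
    ∃ K : Subgroup (Perm (Fin 7)), K ≤ alternatingGroup (Fin 7) ∧ Cfsg.IsPiSubgroup π K ∧
      ∀ f : Fin 7 → Bool, Case π 7 (Nat.card {x // f x = true}) → ¬ K ≤ blk f := by
  classical
  refine ⟨Subgroup.closure {swap 0 1 * swap 1 2, swap 0 3 * swap 1 4 * swap 2 5 * swap 0 1}, ?_,
    pi_of_lab (by norm_num) hT lab7_surjective (by decide) ?_, fun f hc hK => ?_⟩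
  · rw [Subgroup.closure_le]
    rintro g (rfl | rfl) <;> · rw [SetLike.mem_coe, mem_alternatingGroup]; decide
  · rw [Subgroup.closure_le]
    rintro g (rfl | rfl) <;> · rw [SetLike.mem_coe, mem_blk]; decide
  · have ha : Nat.card {x // f x = true} = 4 := by
      rcases hc with ⟨-, -, hL⟩ | ⟨e, -, -⟩ | ⟨-, e, -⟩
      · exfalso
        have := (hT 5 (by norm_num) (by norm_num)).1 ((hL 5 (by norm_num) (by norm_num)).2 (by norm_num))
        omega
      · exact e
      · omega
    refine no_set_seven (Finset.univ.filter fun z => f z = true) ?_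
      ⟨blk_finset (hK (Subgroup.subset_closure (Or.inl rfl))), blk_finset (hK (Subgroup.subset_closure (Or.inr rfl)))⟩
    rw [Finset.mem_powersetCard]
    refine ⟨Finset.subset_univ _, ?_⟩
    rw [← ha, Nat.card_eq_fintype_card, Fintype.card_subtype]

theorem counter_eight {π : Set ℕ} (hT : TT π 8) :
    ∃ K : Subgroup (Perm (Fin 8)), K ≤ alternatingGroup (Fin 8) ∧ Cfsg.IsPiSubgroup π K ∧
      ∀ f : Fin 8 → Bool, Case π 8 (Nat.card {x // f x = true}) → ¬ K ≤ blk f := by
  classical
  refine ⟨Subgroup.closure {swap 0 1 * swap 1 2, swap 3 4 * swap 4 5, swap 0 1 * swap 6 7}, ?_,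
    pi_of_lab (by norm_num) hT lab8_surjective (by decide) ?_, fun f hc hK => ?_⟩
  · rw [Subgroup.closure_le]
    rintro g (rfl | rfl | rfl) <;> · rw [SetLike.mem_coe, mem_alternatingGroup]; decide
  · rw [Subgroup.closure_le]
    rintro g (rfl | rfl | rfl) <;> · rw [SetLike.mem_coe, mem_blk]; decide
  · have ha : Nat.card {x // f x = true} = 4 := by
      rcases hc with ⟨-, hp, -⟩ | ⟨-, e, -⟩ | ⟨e, -, -⟩
      · norm_num at hp
      · omega
      · exact e
    refine no_set_eight (Finset.univ.filter fun z => f z = true) ?_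
      ⟨blk_finset (hK (Subgroup.subset_closure (Or.inl rfl))),
        blk_finset (hK (Subgroup.subset_closure (Or.inr (Or.inl rfl)))),
        blk_finset (hK (Subgroup.subset_closure (Or.inr (Or.inr rfl))))⟩
    rw [Finset.mem_powersetCard]
    refine ⟨Finset.subset_univ _, ?_⟩
    rw [← ha, Nat.card_eq_fintype_card, Fintype.card_subtype]

end CfsgLib.SymHall
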