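import Cfsg.Agent.SymHall.Main
import Mathlib

/-!
Consequences: extension, conjugacy and existence of Hall subgroups of symmetric and alternating groups.
-/

set_option autoImplicit false
set_option linter.style.haveILetI false
set_option linter.unusedSectionVars false

namespace CfsgLib.SymHall

open Equiv Equiv.Perm MulAction

universe u

variable {α : Type u} [Fintype α] [DecidableEq α] {π : Set ℕ}

theorem le_card_of_dvd_factorial {p : ℕ} (hp : p.Prime) (h : p ∣ Nat.card (Perm α)) : p ≤ Fintype.card α := by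
  rw [Nat.card_perm, Nat.card_eq_fintype_card] at h
  exact hp.dvd_factorial.1 h

theorem Hyp.eq_of_pi {G H K : Subgroup (Perm α)} (h : Hyp π G H) (hHK : H ≤ K) (hKG : K ≤ G)
    (hK : Cfsg.IsPiSubgroup π K) : H = K := by
  refine le_antisymm hHK (Subgroup.relIndex_eq_one.1 ?_)
  by_contra hne
  obtain ⟨p, hp, hd⟩ := Nat.exists_prime_and_dvd hne
  refine h.index p hp (hK p hp (hd.trans ?_)) (hd.trans ?_)
  · exact Subgroup.relIndex_dvd_card H K
  · exact Dvd.intro _ (Subgroup.relIndex_mul_relIndex H K G hHK hKG)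

theorem not_two_or {n : ℕ} (h : ¬ Two π n) :
    (∀ p, p.Prime → p ≤ n → p ∉ π) ∨ ∃ q, q.Prime ∧ q ∈ π ∧ ∀ p, p.Prime → p ≤ n → p ∈ π → p = q := by
  by_cases h1 : ∀ p, p.Prime → p ≤ n → p ∉ π
  · exact Or.inl h1
  · push Not at h1
    obtain ⟨q, hq, hqn, hqπ⟩ := h1
    exact Or.inr ⟨q, hq, hqπ, fun p hp hpn hpπ => by_contra fun hne => h ⟨p, q, hp, hq, hne, hpπ, hqπ, hpn, hqn⟩⟩

/-- The group of the shape is a Hall subgroup. -/
theorem hyp_blk {f : α → Bool} (hc : Case π (Fintype.card α) (Nat.card {x // f x = true}))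
    (hn : 3 ≤ Fintype.card α) : Hyp π ⊤ (blk f) ∧ ∃ t ∈ blk f, sign t = -1 := by
  classical
  set n := Fintype.card α with hn'
  set a := Nat.card {x // f x = true} with ha
  set b := Nat.card {x // f x = false} with hb
  have hab : a + b = n := by
    rw [hn', ← Nat.card_eq_fintype_card (α := α), ← Nat.card_congr (Equiv.sigmaFiberEquiv f), Nat.card_sigma,
      Fintype.sum_bool]
  have ha1 : 1 ≤ a ∧ 1 ≤ b := by rcases hc with ⟨e, -, -⟩ | ⟨e, e', -⟩ | ⟨e, e', -⟩ <;> omega
  have hsurj : Function.Surjective f := by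
    rintro (_ | _)
    · obtain ⟨⟨x, hx⟩⟩ := (Nat.card_pos_iff.1 ha1.2).1
      exact ⟨x, hx⟩
    · obtain ⟨⟨x, hx⟩⟩ := (Nat.card_pos_iff.1 ha1.1).1
      exact ⟨x, hx⟩
  have hcard : Nat.card (blk f) ∣ 2 * (a.factorial * b.factorial) := by
    refine (card_blk_dvd hsurj).trans (dvd_of_eq ?_)
    rw [card_part, Fintype.prod_bool, Fintype.card_bool, Nat.factorial_two, ← ha, ← hb]
  have hch : (part f).relIndex (blk f) * (blk f).index = n.choose a := by
    rw [Subgroup.relIndex_mul_index (part_le_blk f)]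
    have h1 := (part f).card_mul_index
    rw [card_part, Fintype.prod_bool, ← ha, ← hb, Nat.card_perm, Nat.card_eq_fintype_card (α := α), ← hn'] at h1
    have h2 := Nat.choose_mul_factorial_mul_factorial (show a ≤ n by omega)
    rw [show n - a = b by omega] at h2
    refine Nat.eq_of_mul_eq_mul_left (show 0 < a.factorial * b.factorial by positivity) ?_
    rw [h1, ← h2]; ring
  have hodd : ∃ t ∈ blk f, sign t = -1 := by
    have h3 : 2 ≤ a ∨ 2 ≤ b := by omega
    rcases h3 with h3 | h3
    · haveI : Nontrivial {x // f x = true} := Finite.one_lt_card_iff_nontrivial.1 h3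
      obtain ⟨⟨x, hx⟩, ⟨y, hy⟩, hne⟩ := exists_pair_ne {x // f x = true}
      exact ⟨swap x y, part_le_blk f (swap_mem_part (hx.trans hy.symm)), sign_swap fun e => hne (Subtype.ext e)⟩
    · haveI : Nontrivial {x // f x = false} := Finite.one_lt_card_iff_nontrivial.1 h3
      obtain ⟨⟨x, hx⟩, ⟨y, hy⟩, hne⟩ := exists_pair_ne {x // f x = false}
      exact ⟨swap x y, part_le_blk f (swap_mem_part (hx.trans hy.symm)), sign_swap fun e => hne (Subtype.ext e)⟩
  refine ⟨⟨Or.inl rfl, le_top, fun p hp hd => ?_, fun p hp hpπ hd => ?_⟩, hodd⟩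
  · have hp3 : p ≤ max 2 (max a b) := by
      rcases hp.dvd_mul.1 (hd.trans hcard) with h | h
      · exact (Nat.le_of_dvd two_pos h).trans (le_max_left _ _)
      · rcases hp.dvd_mul.1 h with h | h <;> have := hp.dvd_factorial.1 h <;> omega
    rcases hc with ⟨e, hnp, hL⟩ | ⟨e, e', hT⟩ | ⟨e, e', hT⟩
    · exact (hL p hp (by omega)).2 (by omega)
    all_goals
      refine (hT p hp (by omega)).2 ?_
      have := hp.two_le
      have : p ≠ 4 := by rintro rfl; norm_num at hp
      omega
  · rw [Subgroup.relIndex_top_right] at hd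
    have hd' : p ∣ n.choose a := hd.trans (Dvd.intro_left _ hch)
    rcases hc with ⟨e, hnp, hL⟩ | ⟨e, e', hT⟩ | ⟨e, e', hT⟩
    · rw [e, Nat.choose_one_right] at hd'
      obtain rfl := (Nat.prime_dvd_prime_iff_eq hp hnp).1 hd'
      exact lt_irrefl _ ((hL _ hp le_rfl).1 hpπ)
    · rw [e, e', show Nat.choose 7 4 = 5 * 7 from rfl] at hd'
      rcases hp.dvd_mul.1 hd' with h | h <;> obtain rfl := (Nat.prime_dvd_prime_iff_eq hp (by norm_num)).1 h <;>
        have := (hT _ hp (by omega)).1 hpπ <;> omega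
    · -- an element exchanging the parts
      have eb : b = 4 := by omega
      obtain ⟨ε⟩ : Nonempty ({x // f x = true} ≃ {x // f x = false}) :=
        ⟨Fintype.equivOfCardEq (by rw [← Nat.card_eq_fintype_card, ← Nat.card_eq_fintype_card, ← ha, ← hb, e, eb])⟩
      let ε' : {x // ¬ f x = true} ≃ {x // ¬ f x = false} :=
        (Equiv.subtypeEquivRight (fun x => by simp)).trans (ε.symm.trans (Equiv.subtypeEquivRight (fun x => by simp)))
      let σ : Perm α := Equiv.subtypeCongr ε ε'
      have hσ : ∀ x, f (σ x) = !f x := by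
        intro x
        cases hx : f x
        · have hx' : ¬ f x = true := by simp [hx]
          have : σ x = ε' ⟨x, hx'⟩ := (show Equiv.subtypeCongr ε ε' x = ε' ⟨x, hx'⟩ by simp [Equiv.subtypeCongr, hx'])
          have h2 := (ε' ⟨x, hx'⟩).2
          rw [this]; simpa using h2
        · have : σ x = ε ⟨x, hx⟩ := (show Equiv.subtypeCongr ε ε' x = ε ⟨x, hx⟩ by simp [Equiv.subtypeCongr, hx])
          rw [this, (ε ⟨x, hx⟩).2]; rfl
      have hσW : σ ∈ blk f := fun x y => by rw [hσ, hσ]; exact (Bool.not_inj_iff)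
      have hσP : σ ∉ part f := fun h => by
        obtain ⟨x, hx⟩ := hsurj true
        have := h x
        rw [hσ, hx] at this
        simp at this
      have hrel : (part f).relIndex (blk f) = 2 := by
        have h2 : (part f).relIndex (blk f) ∣ 2 := by
          have h4 := Subgroup.relIndex_mul_relIndex (⊥ : Subgroup (Perm α)) (part f) (blk f) bot_le (part_le_blk f)
          rw [Subgroup.relIndex_bot_left, Subgroup.relIndex_bot_left] at h4
          have h5 : Nat.card (part f) * (part f).relIndex (blk f) ∣ Nat.card (part f) * 2 := by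
            rw [h4, card_part, Fintype.prod_bool, ← ha, ← hb, mul_comm]
            exact hcard
          exact Nat.dvd_of_mul_dvd_mul_left Nat.card_pos h5
        rcases (Nat.dvd_prime Nat.prime_two).1 h2 with h | h
        · exact absurd (Subgroup.relIndex_eq_one.1 h hσW) hσP
        · exact h
      have h35 : (blk f).index = 5 * 7 := by
        rw [hrel, e, e', show Nat.choose 8 4 = 70 from rfl] at hch
        omega
      rw [h35] at hd
      rcases hp.dvd_mul.1 hd with h | h <;> obtain rfl := (Nat.prime_dvd_prime_iff_eq hp (by norm_num)).1 h <;>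
        have := (hT _ hp (by omega)).1 hpπ <;> omega

/-- Every Hall subgroup is the intersection with a Hall subgroup of the symmetric group. -/
theorem Hyp.extend {G H : Subgroup (Perm α)} (h : Hyp π G H) :
    ∃ M₀ : Subgroup (Perm α), Hyp π ⊤ M₀ ∧ H = M₀ ⊓ G := by
  classical
  set n := Fintype.card α
  obtain ⟨M₀, hM, hle⟩ : ∃ M₀ : Subgroup (Perm α), Hyp π ⊤ M₀ ∧ H ≤ M₀ := by
    by_cases hall : All π n
    · refine ⟨⊤, ⟨Or.inl rfl, le_rfl, fun p hp hd => hall p hp (le_card_of_dvd_factorial hp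
        (hd.trans (dvd_of_eq Subgroup.card_top))), fun p hp _ hd => ?_⟩, le_top⟩
      rw [Subgroup.relIndex_self] at hd
      exact hp.not_dvd_one hd
    by_cases htwo : Two π n
    · obtain ⟨f, hf, hc⟩ := classify h htwo hall
      exact ⟨blk f, (hyp_blk hc (three_le_of_two htwo)).1, hf⟩
    rcases not_two_or htwo with h0 | ⟨q, hq, hqπ, huq⟩
    · refine ⟨⊥, ⟨Or.inl rfl, bot_le, fun p hp hd => ?_, fun p hp hpπ hd => ?_⟩, ?_⟩
      · rw [Subgroup.card_bot] at hd; exact absurd hd hp.not_dvd_one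
      · refine h0 p hp (le_card_of_dvd_factorial hp ?_) hpπ
        rw [Subgroup.relIndex_top_right, Subgroup.index_bot] at hd
        exact hd
      · rw [le_bot_iff, Subgroup.eq_bot_iff_card]
        by_contra hne
        obtain ⟨p, hp, hd⟩ := Nat.exists_prime_and_dvd hne
        exact h0 p hp (le_card_of_dvd_factorial hp (hd.trans (Subgroup.card_subgroup_dvd_card H))) (h.pi p hp hd)
    · haveI := Fact.mk hq
      have hH : IsPGroup q H := by
        rw [IsPGroup.iff_card]
        exact ⟨_, Nat.eq_prime_pow_of_unique_prime_dvd Nat.card_pos.ne' fun {p} hp hd =>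
          huq p hp (le_card_of_dvd_factorial hp (hd.trans (Subgroup.card_subgroup_dvd_card H))) (h.pi p hp hd)⟩
      obtain ⟨P, hP⟩ := hH.exists_le_sylow
      refine ⟨P, ⟨Or.inl rfl, le_top, fun p hp hd => ?_, fun p hp hpπ hd => ?_⟩, hP⟩
      · obtain ⟨k, hk⟩ := IsPGroup.iff_card.1 P.2
        rw [hk] at hd
        rwa [(Nat.prime_dvd_prime_iff_eq hp hq).1 (hp.dvd_of_dvd_pow hd)]
      · rw [Subgroup.relIndex_top_right] at hd
        obtain rfl := huq p hp (le_card_of_dvd_factorial hp (hd.trans (Subgroup.index_dvd_card _))) hpπ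
        exact P.not_dvd_index hd
  exact ⟨M₀, hM, h.eq_of_pi (le_inf hle h.le) inf_le_right
    fun p hp hd => hM.pi p hp (hd.trans (Subgroup.card_dvd_of_le inf_le_left))⟩

/-- Intersection with a Hall subgroup of the symmetric group. -/
theorem Hyp.inter {M₀ : Subgroup (Perm α)} (h : Hyp π ⊤ M₀) :
    Hyp π (alternatingGroup α) (M₀ ⊓ alternatingGroup α) := by
  refine ⟨Or.inr rfl, inf_le_right, fun p hp hd => h.pi p hp (hd.trans (Subgroup.card_dvd_of_le inf_le_left)),
    fun p hp hpπ hd => h.index p hp hpπ ?_⟩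
  rw [Subgroup.relIndex_top_right]
  rw [Subgroup.inf_relIndex_right] at hd
  exact hd.trans (relIndex_dvd_of_normal' _ _)

theorem exists_conj_fibres {f f' : α → Bool}
    (h : Nat.card {x // f x = true} = Nat.card {x // f' x = true}) : ∃ e : Perm α, ∀ x, f' (e x) = f x := by
  classical
  obtain ⟨ε⟩ : Nonempty ({x // f x = true} ≃ {x // f' x = true}) :=
    ⟨Fintype.equivOfCardEq (by rwa [← Nat.card_eq_fintype_card, ← Nat.card_eq_fintype_card])⟩
  obtain ⟨ε'⟩ : Nonempty ({x // ¬ f x = true} ≃ {x // ¬ f' x = true}) := by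
    refine ⟨Fintype.equivOfCardEq ?_⟩
    rw [Fintype.card_subtype_compl, Fintype.card_subtype_compl]
    simp only [Nat.card_eq_fintype_card] at h
    rw [h]
  refine ⟨Equiv.subtypeCongr ε ε', fun x => ?_⟩
  cases hx : f x
  · have hx' : ¬ f x = true := by simp [hx]
    have h2 := (ε' ⟨x, hx'⟩).2
    rw [(show Equiv.subtypeCongr ε ε' x = ε' ⟨x, hx'⟩ by simp [Equiv.subtypeCongr, hx'])]
    simpa using h2
  · rw [(show Equiv.subtypeCongr ε ε' x = ε ⟨x, hx⟩ by simp [Equiv.subtypeCongr, hx]), (ε ⟨x, hx⟩).2]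

theorem map_conj_blk {f f' : α → Bool} {e : Perm α} (he : ∀ x, f' (e x) = f x) :
    (blk f).map (MulAut.conj e).toMonoidHom = blk f' := by
  ext g
  rw [Subgroup.mem_map_equiv, MulAut.conj_symm_apply, mem_blk, mem_blk]
  constructor
  · intro h x y
    have := h (e⁻¹ x) (e⁻¹ y)
    simpa [← he] using this
  · intro h x y
    have := h (e x) (e y)
    simpa [← he] using this

theorem case_unique {n a a' : ℕ} (h : Case π n a) (h' : Case π n a') : a = a' := by
  rcases h with ⟨e, -, hL⟩ | ⟨e, en, hT⟩ | ⟨e, en, hT⟩ <;>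
    rcases h' with ⟨e', hp', hL'⟩ | ⟨e', en', hT'⟩ | ⟨e', en', hT'⟩ <;> subst e e'
  all_goals first
    | rfl
    | (exfalso; subst en; exact absurd ((hT 5 (by norm_num) (by norm_num)).1
        ((hL' 5 (by norm_num) (by norm_num)).2 (by norm_num))) (by norm_num))
    | (exfalso; subst en'; exact absurd ((hT' 5 (by norm_num) (by norm_num)).1
        ((hL 5 (by norm_num) (by norm_num)).2 (by norm_num))) (by norm_num))

/-- Conjugacy of Hall subgroups. -/
theorem Hyp.conj {G H K : Subgroup (Perm α)} (h : Hyp π G H) (k : Hyp π G K) :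
    ∃ g ∈ G, K = H.map (MulAut.conj g).toMonoidHom := by
  classical
  set n := Fintype.card α
  have hmap : ∀ g ∈ G, ∀ {L : Subgroup (Perm α)}, L ≤ G → L.map (MulAut.conj g).toMonoidHom ≤ G := by
    rintro g hg L hL _ ⟨x, hx, rfl⟩
    exact mul_mem (mul_mem hg (hL hx)) (inv_mem hg)
  by_cases hall : All π n
  · have key : ∀ {L : Subgroup (Perm α)}, Hyp π G L → L = G := fun {L} hL => hL.eq_of_pi hL.le le_rfl
      fun p hp hd => hall p hp (le_card_of_dvd_factorial hp (hd.trans (Subgroup.card_subgroup_dvd_card G)))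
    refine ⟨1, one_mem _, ?_⟩
    rw [key h, key k]
    ext x
    simp [Subgroup.mem_map]
  by_cases htwo : Two π n
  · obtain ⟨f, hf, hc⟩ := classify h htwo hall
    obtain ⟨f', hf', hc'⟩ := classify k htwo hall
    have hn3 := three_le_of_two htwo
    obtain ⟨hM, t, htW, hts⟩ := hyp_blk hc hn3
    obtain ⟨hM', -⟩ := hyp_blk hc' hn3
    have eH : H = blk f ⊓ G := h.eq_of_pi (le_inf hf h.le) inf_le_right
      fun p hp hd => hM.pi p hp (hd.trans (Subgroup.card_dvd_of_le inf_le_left))
    have eK : K = blk f' ⊓ G := k.eq_of_pi (le_inf hf' k.le) inf_le_right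
      fun p hp hd => hM'.pi p hp (hd.trans (Subgroup.card_dvd_of_le inf_le_left))
    obtain ⟨e, he⟩ := exists_conj_fibres (case_unique hc hc')
    obtain ⟨g, hgG, hg⟩ : ∃ g ∈ G, (blk f).map (MulAut.conj g).toMonoidHom = blk f' := by
      rcases Int.units_eq_one_or (sign e) with hs | hs
      · exact ⟨e, h.alt_le (mem_alternatingGroup.2 hs), map_conj_blk he⟩
      · refine ⟨e * t, h.alt_le (mem_alternatingGroup.2 (by rw [map_mul, hs, hts]; decide)), ?_⟩
        rw [← map_conj_blk he]
        ext x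
        rw [Subgroup.mem_map_equiv, Subgroup.mem_map_equiv, MulAut.conj_symm_apply, MulAut.conj_symm_apply]
        constructor
        · intro hx
          have := mul_mem (mul_mem htW hx) (inv_mem htW)
          simpa [mul_assoc] using this
        · intro hx
          have := mul_mem (mul_mem (inv_mem htW) hx) htW
          simpa [mul_assoc] using this
    refine ⟨g, hgG, ?_⟩
    rw [eH, eK, Subgroup.map_inf _ _ _ (MulAut.conj g).injective, hg]
    congr 1
    refine le_antisymm (fun x hx => ?_) (hmap g hgG le_rfl)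
    rw [Subgroup.mem_map_equiv, MulAut.conj_symm_apply]
    exact mul_mem (mul_mem (inv_mem hgG) hx) hgG
  rcases not_two_or htwo with h0 | ⟨q, hq, hqπ, huq⟩
  · have key : ∀ {L : Subgroup (Perm α)}, Hyp π G L → L = ⊥ := fun {L} hL => by
      rw [Subgroup.eq_bot_iff_card]
      by_contra hne
      obtain ⟨p, hp, hd⟩ := Nat.exists_prime_and_dvd hne
      exact h0 p hp (le_card_of_dvd_factorial hp (hd.trans (Subgroup.card_subgroup_dvd_card L))) (hL.pi p hp hd)
    exact ⟨1, one_mem _, by rw [key h, key k, Subgroup.map_bot]⟩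
  · have key : ∀ {L : Subgroup (Perm α)}, Hyp π G L → IsPGroup q L := fun {L} hL => by
      haveI := Fact.mk hq
      rw [IsPGroup.iff_card]
      exact ⟨_, Nat.eq_prime_pow_of_unique_prime_dvd Nat.card_pos.ne' fun {p} hp hd =>
        huq p hp (le_card_of_dvd_factorial hp (hd.trans (Subgroup.card_subgroup_dvd_card L))) (hL.pi p hp hd)⟩
    obtain ⟨g, hg, hgK⟩ := k.pow_group_conj hq hqπ (key h) h.le
    obtain ⟨g', -, hgH⟩ := h.pow_group_conj hq hqπ (key k) k.le
    refine ⟨g, hg, (Subgroup.eq_of_le_of_card_ge ?_ ?_).symm⟩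
    · rintro _ ⟨x, hx, rfl⟩
      exact hgK x hx
    · rw [Subgroup.card_map_of_injective (MulAut.conj g).injective,
        ← Subgroup.card_map_of_injective (K := K) (f := (MulAut.conj g').toMonoidHom) (MulAut.conj g').injective]
      refine Subgroup.card_le_of_le ?_
      rintro _ ⟨x, hx, rfl⟩
      exact hgH x hx

theorem hyp_top_iff {H : Subgroup (Perm α)} : Hyp π ⊤ H ↔ Cfsg.IsPiHall π H := by
  refine ⟨fun h => ⟨h.pi, fun p hp hpπ => ?_⟩, fun h => ⟨Or.inl rfl, le_top, h.1, fun p hp hpπ => ?_⟩⟩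
  · rw [← Subgroup.relIndex_top_right]; exact h.index p hp hpπ
  · rw [Subgroup.relIndex_top_right]; exact h.2 p hp hpπ

theorem hyp_alt_iff {M : Subgroup (alternatingGroup α)} :
    Hyp π (alternatingGroup α) (M.map (alternatingGroup α).subtype) ↔ Cfsg.IsPiHall π M := by
  have hc : Nat.card (M.map (alternatingGroup α).subtype) = Nat.card M :=
    Subgroup.card_map_of_injective (alternatingGroup α).subtype_injective
  have hi : (M.map (alternatingGroup α).subtype).relIndex (alternatingGroup α) = M.index := by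
    rw [Subgroup.relIndex]
    congr 1
    exact Subgroup.comap_map_eq_self_of_injective (alternatingGroup α).subtype_injective M
  refine ⟨fun h => ⟨fun p hp hd => h.pi p hp (hc.symm ▸ hd), fun p hp hpπ => hi ▸ h.index p hp hpπ⟩,
    fun h => ⟨Or.inr rfl, Subgroup.map_subtype_le _, fun p hp hd => h.1 p hp (hc ▸ hd), fun p hp hpπ => ?_⟩⟩
  rw [hi]; exact h.2 p hp hpπ

end CfsgLib.SymHall
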