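import Mathlib

/-!
Arithmetic for Hall subgroups of symmetric groups: digit sums and carry-free binomial coefficients.
-/

set_option autoImplicit false
set_option linter.style.haveILetI false

namespace CfsgLib.SymHall

/-- Digit sum. -/
def S (p n : ℕ) : ℕ := (p.digits n).sum

theorem S_zero (p : ℕ) : S p 0 = 0 := by simp [S]

theorem S_le (p n : ℕ) : S p n ≤ n := Nat.digit_sum_le p n

theorem S_eq {p : ℕ} (hp : 1 < p) (n : ℕ) : S p n = n % p + S p (n / p) := by
  rcases Nat.eq_zero_or_pos n with rfl | hn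
  · simp [S]
  · simp [S, Nat.digits_def' hp hn]

theorem S_of_lt {p n : ℕ} (hp : 1 < p) (h : n < p) : S p n = n := by
  rw [S_eq hp, Nat.mod_eq_of_lt h, Nat.div_eq_of_lt h, S_zero, add_zero]

theorem S_pos {p n : ℕ} (hp : 1 < p) (hn : 0 < n) : 0 < S p n := by
  induction n using Nat.strong_induction_on with
  | _ n ih =>
    rw [S_eq hp]
    rcases Nat.eq_zero_or_pos (n % p) with h | h
    · have h1 : 0 < n / p := by
        rcases Nat.eq_zero_or_pos (n / p) with h2 | h2
        · have := Nat.div_add_mod n p; rw [h2, h, mul_zero] at this; omega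
        · exact h2
      have := ih _ (Nat.div_lt_self hn hp) h1
      omega
    · omega

theorem S_lt {p n : ℕ} (hp : 1 < p) (h : p ≤ n) : S p n < n := by
  rw [S_eq hp]
  have h1 := S_le p (n / p)
  have h2 := Nat.div_add_mod n p
  have h3 : 0 < n / p := Nat.div_pos h (by omega)
  have h4 : 2 * (n / p) ≤ p * (n / p) := Nat.mul_le_mul_right _ hp
  omega

theorem S_mul_self {p : ℕ} (hp : 1 < p) (n : ℕ) : S p (p * n) = S p n := by
  rw [S_eq hp, Nat.mul_mod_right, Nat.mul_div_cancel_left _ (by omega), zero_add]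

theorem eq_pow_of_S_eq_one {p : ℕ} (hp : 1 < p) (n : ℕ) (h : S p n = 1) : ∃ e, n = p ^ e := by
  induction n using Nat.strong_induction_on with
  | _ n ih =>
    rcases Nat.lt_or_ge n p with h' | h'
    · rw [S_of_lt hp h'] at h; exact ⟨0, by rw [h, pow_zero]⟩
    · rw [S_eq hp] at h
      have h1 : 0 < n / p := Nat.div_pos h' (by omega)
      have h2 := S_pos hp h1
      obtain ⟨e, he⟩ := ih (n / p) (Nat.div_lt_self (by omega) hp) (by omega)
      refine ⟨e + 1, ?_⟩
      have h3 := Nat.div_add_mod n p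
      rw [he] at h3
      rw [pow_succ']
      omega

theorem S_add_le {p : ℕ} (hp : p.Prime) (a b : ℕ) : S p (a + b) ≤ S p a + S p b := by
  haveI := Fact.mk hp
  have h1 : padicValNat p (a.factorial * b.factorial) ≤ padicValNat p (a + b).factorial :=
    (padicValNat_dvd_iff_le (Nat.factorial_ne_zero _)).1 (pow_padicValNat_dvd.trans
      (Nat.factorial_mul_factorial_dvd_factorial_add a b))
  rw [padicValNat.mul (Nat.factorial_ne_zero _) (Nat.factorial_ne_zero _)] at h1
  have h2 := Nat.mul_le_mul_left (p - 1) h1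
  rw [Nat.mul_add, sub_one_mul_padicValNat_factorial, sub_one_mul_padicValNat_factorial,
    sub_one_mul_padicValNat_factorial] at h2
  have ha := S_le p a
  have hb := S_le p b
  have hab := S_le p (a + b)
  simp only [S] at *
  omega

theorem S_mul_small {p : ℕ} (hp : p.Prime) (a d : ℕ) : S p (d * a) ≤ d * S p a := by
  induction d with
  | zero => simp [S_zero]
  | succ d ih =>
    rw [Nat.add_one_mul, Nat.add_one_mul]
    exact (S_add_le hp _ _).trans (by omega)

theorem S_mul_le {p : ℕ} (hp : p.Prime) (a b : ℕ) : S p (a * b) ≤ S p a * S p b := by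
  induction b using Nat.strong_induction_on with
  | _ b ih =>
    rcases Nat.eq_zero_or_pos b with rfl | hb
    · simp [S_zero]
    · have h1 := ih (b / p) (Nat.div_lt_self hb hp.one_lt)
      conv_lhs => rw [← Nat.div_add_mod b p, Nat.mul_add, Nat.mul_comm a (b % p),
        show a * (p * (b / p)) = p * (a * (b / p)) by ring]
      refine (S_add_le hp _ _).trans ?_
      rw [S_mul_self hp.one_lt, S_eq hp.one_lt b, Nat.mul_add, Nat.mul_comm (S p a) (b % p)]
      have := S_mul_small hp a (b % p)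
      omega

/-- A `p`-part inequality for the wreath product, in digit sums. -/
theorem wreath_ineq {p k m : ℕ} (hp : p.Prime)
    (h : padicValNat p (k * m).factorial ≤ k * padicValNat p m.factorial + padicValNat p k.factorial) :
    k * S p m + S p k ≤ S p (k * m) + k := by
  haveI := Fact.mk hp
  have h2 := Nat.mul_le_mul_left (p - 1) h
  rw [Nat.mul_add, Nat.mul_left_comm, sub_one_mul_padicValNat_factorial, sub_one_mul_padicValNat_factorial,
    sub_one_mul_padicValNat_factorial] at h2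
  have ha := S_le p m
  have hb := S_le p k
  have hab := S_le p (k * m)
  have hk := Nat.mul_le_mul_left k ha
  simp only [S] at *
  rw [Nat.mul_sub] at h2
  omega

theorem wreath_cases {p k m : ℕ} (hp : p.Prime) (hk : 2 ≤ k) (hm : 2 ≤ m) (hpn : p ≤ k * m)
    (h : k * S p m + S p k ≤ S p (k * m) + k) : (S p m = 1 ∨ k < p) ∧ p ≤ m := by
  have h1 : S p (k * m) ≤ S p k * S p m := S_mul_le hp k m
  have hm1 := S_pos hp.one_lt (show 0 < m by omega)
  have hk1 := S_le p k
  have hA : S p m = 1 ∨ k < p := by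
    rcases Nat.lt_or_ge k p with h' | h'
    · exact Or.inr h'
    · have h2 := S_lt hp.one_lt h'
      left
      by_contra hne
      obtain ⟨d, hd⟩ : ∃ d, k = S p k + d + 1 := ⟨k - S p k - 1, by omega⟩
      obtain ⟨e, he⟩ : ∃ e, S p m = e + 2 := ⟨S p m - 2, by omega⟩
      have e1 : k * S p m + S p k ≤ S p k * S p m + k := by omega
      generalize S p k = sk at hd e1
      rw [he, hd] at e1
      nlinarith
  refine ⟨hA, ?_⟩
  by_contra hmp
  push Not at hmp
  have h3 : S p m = m := S_of_lt hp.one_lt hmp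
  rcases hA with h4 | h4
  · omega
  · rw [h3, S_of_lt hp.one_lt h4] at h
    have := S_lt hp.one_lt hpn
    omega

/-- No carries when adding `a` and `b` in base `p`. -/
def Free (p a b : ℕ) : Prop := ∀ i, 1 ≤ i → a % p ^ i + b % p ^ i < p ^ i

theorem free_of_not_dvd_choose {p a b : ℕ} (hp : p.Prime) (h : ¬ p ∣ (a + b).choose a) : Free p a b := by
  intro i hi
  by_contra hc
  push Not at hc
  have hne : (a + b).choose a ≠ 0 := (Nat.choose_pos (by omega)).ne'
  have h0 := Nat.factorization_eq_zero_of_not_dvd h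
  rw [Nat.factorization_choose hp (show a ≤ a + b by omega) (Nat.lt_succ_self (Nat.log p (a + b))),
    Nat.add_sub_cancel_left, Finset.card_eq_zero, Finset.filter_eq_empty_iff] at h0
  · have hlog : i < Nat.log p (a + b) + 1 := by
      refine Nat.lt_succ_of_le (Nat.le_log_of_pow_le hp.one_lt ?_)
      have := Nat.mod_le a (p ^ i)
      have := Nat.mod_le b (p ^ i)
      omega
    exact h0 (Finset.mem_Ico.2 ⟨hi, hlog⟩) hc

theorem free_mod_add {p a b : ℕ} (hf : Free p a b) {i : ℕ} (hi : 1 ≤ i) :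
    a % p ^ i + b % p ^ i = (a + b) % p ^ i := by
  rw [Nat.add_mod, Nat.mod_eq_of_lt (hf i hi)]

/-- To be below `a` it suffices to be so at every prime power. -/
theorem dvd_of_prime_powers {x y : ℕ}
    (h : ∀ l i : ℕ, l.Prime → 1 ≤ i → l ^ i ∣ x → l ^ i ∣ y) : x ∣ y :=
  (Nat.dvd_iff_prime_pow_dvd_dvd y x).2 fun p k hp hd => by
    rcases Nat.eq_zero_or_pos k with rfl | hk
    · simp
    · exact h p k hp hk hd

/-- The primes of a composite number up to `2a` are at most `a`. -/
theorem le_of_composite {x a l : ℕ} (hx : ¬ x.Prime) (hl : l.Prime) (hlx : l ∣ x) (hx0 : 0 < x)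
    (hxa : x ≤ 2 * a + 1) : l ≤ a := by
  obtain ⟨c, rfl⟩ := hlx
  have hc : c ≠ 1 := fun h => hx (by rwa [h, mul_one])
  have hc0 : c ≠ 0 := by rintro rfl; simp at hx0
  have := Nat.mul_le_mul_left l (show 2 ≤ c by omega)
  omega

/-- Carry-free at every prime up to `a`: `a + 1` is prime and `b = 1`, or `(a, b) = (4, 3)`. -/
theorem carry_free_small {a b : ℕ} (ha : 3 ≤ a) (hb : 1 ≤ b) (hba : b ≤ a)
    (hf : ∀ l : ℕ, l.Prime → l ≤ a → Free l a b) :
    (b = 1 ∧ (a + 1).Prime) ∨ (a = 4 ∧ b = 3) := by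
  have hmod : ∀ (l i x : ℕ), 1 ≤ i → l ^ i ∣ x → ¬ x.Prime → l.Prime → 0 < x → x ≤ 2 * a + 1 →
      a % l ^ i + b % l ^ i = (a + b) % l ^ i :=
    fun l i x hi hd hx hl hx0 hxa =>
      free_mod_add (hf l hl (le_of_composite hx hl ((dvd_pow_self l (by omega)).trans hd) hx0 hxa)) hi
  -- `a + b` is prime
  have hn : (a + b).Prime := by
    by_contra hn
    have : a + b ∣ a := dvd_of_prime_powers fun l i hl hi hd => by
      have h1 := hmod l i (a + b) hi hd hn hl (by omega) (by omega)
      rw [Nat.dvd_iff_mod_eq_zero.1 hd] at h1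
      exact Nat.dvd_of_mod_eq_zero (Nat.eq_zero_of_add_eq_zero h1).1
    have := Nat.le_of_dvd (by omega) this
    omega
  have hbl : b < a := by
    rcases Nat.lt_or_ge b a with h | h
    · exact h
    · exfalso
      have hab : a = b := by omega
      subst hab
      have h2 : a + a = 2 := ((Nat.prime_dvd_prime_iff_eq Nat.prime_two hn).1 ⟨a, by omega⟩).symm
      omega
  -- `a + 1` is prime
  have ha1 : (a + 1).Prime := by
    by_contra hne
    have : a + 1 ∣ b := dvd_of_prime_powers fun l i hl hi hd => by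
      have h1 := hf l hl (le_of_composite hne hl ((dvd_pow_self l (by omega)).trans hd) (by omega) (by omega)) i hi
      have h4 : 1 < l ^ i := Nat.one_lt_pow (by omega) hl.one_lt
      have h3 := Nat.add_mod a 1 (l ^ i)
      rw [Nat.dvd_iff_mod_eq_zero.1 hd, Nat.mod_eq_of_lt h4] at h3
      have h5 := Nat.mod_lt a (show l ^ i > 0 by omega)
      generalize hqd : l ^ i = q at *
      rcases Nat.lt_or_ge (a % q + 1) q with h6 | h6
      · rw [Nat.mod_eq_of_lt h6] at h3; omega
      · exact Nat.dvd_of_mod_eq_zero (by omega)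
    have := Nat.le_of_dvd (by omega) this
    omega
  rcases eq_or_ne b 1 with rfl | hb1
  · exact Or.inl ⟨rfl, ha1⟩
  right
  have hb2 : 2 ≤ b := by omega
  have hbodd : b % 2 = 1 ∧ a % 2 = 0 := by
    rcases hn.eq_two_or_odd with h | h <;> rcases ha1.eq_two_or_odd with h' | h' <;> omega
  -- `b + 1 ∣ a`
  have hb1a : b + 1 ∣ a := dvd_of_prime_powers fun l i hl hi hd => by
    have hle : l ≤ a := le_trans (Nat.le_of_dvd (by omega) ((dvd_pow_self l (by omega)).trans hd)) (by omega)
    have h1 := hf l hl hle i hi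
    have h4 : 1 < l ^ i := Nat.one_lt_pow (by omega) hl.one_lt
    have h3 := Nat.add_mod b 1 (l ^ i)
    rw [Nat.dvd_iff_mod_eq_zero.1 hd, Nat.mod_eq_of_lt h4] at h3
    have h5 := Nat.mod_lt b (show l ^ i > 0 by omega)
    generalize hqd : l ^ i = q at *
    rcases Nat.lt_or_ge (b % q + 1) q with h6 | h6
    · rw [Nat.mod_eq_of_lt h6] at h3; omega
    · exact Nat.dvd_of_mod_eq_zero (by omega)
  have key : ∀ l i x : ℕ, x = b ∨ x + 1 = b → l ^ i ∣ x → l ^ i ∣ b * (b - 1) := by
    rintro l i x (rfl | h) hd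
    · exact hd.mul_right _
    · exact (show b - 1 = x by omega) ▸ hd.mul_left _
  -- `a + 2 ∣ b (b - 1)`
  have hA : a + 2 ∣ b * (b - 1) := dvd_of_prime_powers fun l i hl hi hd => by
    have hnp : ¬ (a + 2).Prime := fun h => by rcases h.eq_two_or_odd with h' | h' <;> omega
    have h1 := hf l hl (le_of_composite hnp hl ((dvd_pow_self l (by omega)).trans hd) (by omega) (by omega)) i hi
    have h4 : 1 < l ^ i := Nat.one_lt_pow (by omega) hl.one_lt
    set q := l ^ i
    have h5 := Nat.mod_lt a (show q > 0 by omega)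
    have h3 : (a % q + 2) % q = 0 := by rw [Nat.mod_add_mod]; exact Nat.dvd_iff_mod_eq_zero.1 hd
    have h6 : b % q < 2 := by
      rcases Nat.lt_or_ge (a % q + 2) q with h7 | h7
      · rw [Nat.mod_eq_of_lt h7] at h3; omega
      · omega
    rcases (show b % q = 0 ∨ b % q = 1 by omega) with h7 | h7
    · exact key l i b (Or.inl rfl) (Nat.dvd_of_mod_eq_zero h7)
    · exact key l i (b - 1) (Or.inr (by omega)) ((Nat.modEq_iff_dvd' (show 1 ≤ b by omega)).1
        (show 1 % q = b % q by rw [h7, Nat.mod_eq_of_lt h4]))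
  -- `a + b - 1 ∣ b (b - 1)`
  have hB : a + b - 1 ∣ b * (b - 1) := dvd_of_prime_powers fun l i hl hi hd => by
    have hnp : ¬ (a + b - 1).Prime := fun h => by rcases h.eq_two_or_odd with h' | h' <;> omega
    have h1 := hmod l i (a + b - 1) hi hd hnp hl (by omega) (by omega)
    have h4 : 1 < l ^ i := Nat.one_lt_pow (by omega) hl.one_lt
    set q := l ^ i
    have h2 : (a + b) % q = 1 := by
      conv_lhs => rw [show a + b = (a + b - 1) + 1 by omega, Nat.add_mod, Nat.dvd_iff_mod_eq_zero.1 hd]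
      simp [Nat.mod_eq_of_lt h4]
    rw [h2] at h1
    rcases (show b % q = 0 ∨ b % q = 1 by omega) with h7 | h7
    · exact key l i b (Or.inl rfl) (Nat.dvd_of_mod_eq_zero h7)
    · exact key l i (b - 1) (Or.inr (by omega)) ((Nat.modEq_iff_dvd' (show 1 ≤ b by omega)).1
        (show 1 % q = b % q by rw [h7, Nat.mod_eq_of_lt h4]))
  obtain ⟨t, ht⟩ := hA
  obtain ⟨u, hu⟩ := hb1a
  obtain ⟨h, hh⟩ : ∃ h, b = 2 * h + 1 := ⟨b / 2, by omega⟩
  have hb3 : b + 1 ≤ a := hbl
  have hbb : b * (b - 1) = (2 * h + 1) * (2 * h) := by rw [hh]; simp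
  rw [hbb] at ht hB
  have ht0 : 1 ≤ t := Nat.pos_of_ne_zero (by rintro rfl; rw [mul_zero] at ht; nlinarith)
  have htlt : t ≤ 2 * h := by nlinarith
  -- `(b + 1) / 2` divides `t - 1`
  have htmod : h + 1 ∣ t - 1 := by
    have e : (h + 1) * (u * t) + t = (h + 1) * (2 * h - 1) + 1 := by
      have e1 : (2 * h - 1) + 1 = 2 * h := by omega
      have e2 : (a + 2) * t = 2 * ((h + 1) * (u * t) + t) := by rw [hu, hh]; ring
      have e3 : (2 * h + 1) * (2 * h) = 2 * ((h + 1) * (2 * h - 1) + 1) := by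
        obtain ⟨c, hc⟩ : ∃ c, 2 * h = c + 1 := ⟨2 * h - 1, by omega⟩
        have : h * 2 = c + 1 := by omega
        rw [hc, Nat.add_sub_cancel]
        nlinarith
      omega
    have e' : (h + 1) * (u * t) ≤ (h + 1) * (2 * h - 1) := by omega
    exact ⟨(2 * h - 1) - u * t, by rw [Nat.mul_sub]; omega⟩
  obtain ⟨c, hc⟩ := htmod
  have hc2 : c = 0 ∨ c = 1 := by
    by_contra hcc
    have := Nat.mul_le_mul_left (h + 1) (show 2 ≤ c by omega)
    omega
  rcases hc2 with rfl | rfl
  · -- `a + 2 = b (b - 1)`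
    have e : a + 2 = (2 * h + 1) * (2 * h) := by
      rw [ht, show t = 1 by omega, mul_one]
    rcases Nat.lt_or_ge h 2 with h2 | h2
    · obtain rfl : h = 1 := by omega
      norm_num at e
      omega
    · exfalso
      have := Nat.le_of_dvd (by positivity) hB
      omega
  · exfalso
    have e : (2 * h + 1) * (2 * h) = (a + 2) * (h + 2) := by rw [ht, show t = h + 2 by omega]
    have hdiv : h + 2 ∣ 12 := by
      have e' : ((2 * h + 1) * (2 * h) : ℤ) = (a + 2) * (h + 2) := by exact_mod_cast e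
      have : ((h : ℤ) + 2) ∣ 12 := ⟨(a : ℤ) + 2 - 4 * h + 6, by linear_combination e'⟩
      exact_mod_cast this
    have h12 := Nat.le_of_dvd (by norm_num) hdiv
    have h16 : a = 10 ∧ b = 9 := by
      have h10 : h ≤ 10 := by omega
      interval_cases h <;> (try norm_num at e hdiv ⊢) <;> (try omega)
    obtain ⟨rfl, rfl⟩ := h16
    have := hf 2 Nat.prime_two (by norm_num) 4 (by norm_num)
    norm_num at this

/-- `a` prime, carry-free at every prime below it: impossible. -/
theorem carry_free_prime {a b : ℕ} (hp : a.Prime) (ha : 3 ≤ a) (hb : 1 ≤ b) (hba : b ≤ a)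
    (hf : ∀ l : ℕ, l.Prime → l < a → Free l a b) : False := by
  have hodd := hp.eq_two_or_odd
  have hne : ¬ (a + 1).Prime := fun h => by rcases h.eq_two_or_odd with h' | h' <;> omega
  have : a + 1 ∣ b := dvd_of_prime_powers fun l i hl hi hd => by
    have hla := le_of_composite (a := (a + 1) / 2) hne hl ((dvd_pow_self l (by omega)).trans hd) (by omega) (by omega)
    have h1 := hf l hl (by omega) i hi
    have h4 : 1 < l ^ i := Nat.one_lt_pow (by omega) hl.one_lt
    set q := l ^ i
    have h5 := Nat.mod_lt a (show q > 0 by omega)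
    have h3 : (a % q + 1) % q = 0 := by rw [Nat.mod_add_mod]; exact Nat.dvd_iff_mod_eq_zero.1 hd
    rcases Nat.lt_or_ge (a % q + 1) q with h7 | h7
    · rw [Nat.mod_eq_of_lt h7] at h3; omega
    · exact Nat.dvd_of_mod_eq_zero (by omega)
  have := Nat.le_of_dvd (by omega) this
  omega

theorem two_pow_eq_three_pow_sub_one {x t : ℕ} (h : 2 ^ x + 1 = 3 ^ t) : x ≤ 3 := by
  rcases Nat.even_or_odd t with ⟨s, rfl⟩ | ⟨s, rfl⟩
  · rw [pow_add] at h
    have h1 : 1 ≤ 3 ^ s := Nat.one_le_pow _ _ (by norm_num)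
    obtain ⟨y, hy⟩ : ∃ y, 3 ^ s = y + 1 := ⟨3 ^ s - 1, by omega⟩
    rw [hy] at h
    have h2 : y * (y + 2) = 2 ^ x := by nlinarith
    obtain ⟨i, -, hi⟩ := (Nat.dvd_prime_pow Nat.prime_two).1 (Dvd.intro _ h2 : y ∣ 2 ^ x)
    obtain ⟨j, -, hj⟩ := (Nat.dvd_prime_pow Nat.prime_two).1 (Dvd.intro_left _ h2 : y + 2 ∣ 2 ^ x)
    have hi1 : i ≤ 1 := by
      by_contra hi1
      obtain ⟨i', rfl⟩ : ∃ i', i = i' + 2 := ⟨i - 2, by omega⟩
      have hj2 : 2 ≤ j := by
        by_contra hj2
        have : 2 ^ j ≤ 2 ^ 1 := Nat.pow_le_pow_right (by norm_num) (by omega)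
        have : 1 ≤ 2 ^ i' := Nat.one_le_pow _ _ (by norm_num)
        rw [pow_add] at hi
        omega
      obtain ⟨j', rfl⟩ : ∃ j', j = j' + 2 := ⟨j - 2, by omega⟩
      rw [pow_add] at hi hj
      omega
    have hy2 : y ≤ 2 := by rw [hi]; exact le_trans (Nat.pow_le_pow_right (by norm_num) hi1) (by norm_num)
    have : 2 ^ x ≤ 2 ^ 3 := by rw [← h2]; interval_cases y <;> norm_num
    exact (Nat.pow_le_pow_iff_right (by norm_num)).1 this
  · by_contra hx
    obtain ⟨x', rfl⟩ : ∃ x', x = x' + 2 := ⟨x - 2, by omega⟩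
    have h3 : 3 ^ (2 * s + 1) % 4 = 3 := by
      rw [pow_succ, pow_mul, Nat.mul_mod, Nat.pow_mod]
      norm_num
    rw [pow_add] at h
    generalize 3 ^ (2 * s + 1) = T at h h3
    generalize 2 ^ x' = U at h
    norm_num at h
    omega

/-- A power of two at least 8 has a carry when doubled in some odd prime base up to it. -/
theorem two_pow_double {e : ℕ} (he : 3 ≤ e)
    (h : ∀ l : ℕ, l.Prime → l ≠ 2 → l ≤ 2 ^ e → 2 * S l (2 ^ e) ≤ S l (2 * 2 ^ e)) : False := by
  set m := 2 ^ e with hm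
  have hm8 : 8 ≤ m := le_trans (by norm_num) (Nat.pow_le_pow_right (show 0 < 2 by norm_num) he)
  have hdig : ∀ l : ℕ, l.Prime → l ≠ 2 → l ≤ m → 2 * (m % l) < l := by
    intro l hl hl2 hlm
    by_contra hc
    push Not at hc
    have h1 := h l hl hl2 hlm
    obtain ⟨r, hr⟩ : ∃ r, 2 * (m % l) = l + r := ⟨2 * (m % l) - l, by omega⟩
    have hrl : r < l := by have := Nat.mod_lt m hl.pos; omega
    have e1 : 2 * m = r + l * (2 * (m / l) + 1) := by
      have := Nat.div_add_mod m l
      rw [Nat.mul_add, mul_one, Nat.mul_left_comm]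
      omega
    have e2 : S l (2 * m) = r + S l (2 * (m / l) + 1) := by
      rw [S_eq hl.one_lt (2 * m), e1, Nat.add_mul_mod_self_left, Nat.mod_eq_of_lt hrl,
        Nat.add_mul_div_left _ _ hl.pos, Nat.div_eq_of_lt hrl, zero_add]
    have e3 := S_add_le hl (2 * (m / l)) 1
    rw [S_of_lt hl.one_lt hl.one_lt] at e3
    have e4 := S_mul_small hl (m / l) 2
    rw [S_eq hl.one_lt m] at h1
    have := hl.two_le
    omega
  have hpar : ∀ l i : ℕ, l ∣ m + i → i % 2 = 1 → l ≠ 2 := by
    rintro l i hd hi rfl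
    obtain ⟨e', rfl⟩ : ∃ e', e = e' + 1 := ⟨e - 1, by omega⟩
    rw [hm, pow_succ] at hd
    omega
  -- `m + 1` is prime
  have hF : (m + 1).Prime := by
    by_contra hne
    set l := (m + 1).minFac
    have hl : l.Prime := Nat.minFac_prime (by omega)
    have hd : l ∣ m + 1 := Nat.minFac_dvd _
    have hlm : l ≤ m := by
      have := le_of_composite (a := m) hne hl hd (by omega) (by omega)
      exact this
    have h2 := hdig l hl (hpar l 1 hd rfl) hlm
    have h5 := Nat.mod_lt m hl.pos
    have h3 : (m % l + 1) % l = 0 := by rw [Nat.mod_add_mod]; exact Nat.dvd_iff_mod_eq_zero.1 hd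
    rcases Nat.lt_or_ge (m % l + 1) l with h7 | h7
    · rw [Nat.mod_eq_of_lt h7] at h3; omega
    · have := hl.two_le; omega
  have heven : Even e := by
    rcases Nat.even_or_odd e with hev | ⟨s, hs⟩
    · exact hev
    · exfalso
      have h3 : 3 ∣ m + 1 := by
        rw [hm, hs, pow_succ, pow_mul]
        apply Nat.dvd_of_mod_eq_zero
        rw [Nat.add_mod, Nat.mul_mod, Nat.pow_mod]
        norm_num
      have := (Nat.prime_dvd_prime_iff_eq Nat.prime_three hF).1 h3
      omega
  obtain ⟨f, rfl⟩ : ∃ f, e = f + 1 := ⟨e - 1, by omega⟩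
  set x := 2 ^ f + 1 with hx
  have hmx : m + 2 = 2 * x := by rw [hm, hx, pow_succ]; ring
  by_cases h5 : ∃ l, l.Prime ∧ 5 ≤ l ∧ l ∣ x
  · obtain ⟨l, hl, hl5, hlx⟩ := h5
    have hlm : l ≤ m := by have := Nat.le_of_dvd (by omega) hlx; omega
    have h2 := hdig l hl (by omega) hlm
    have hd : l ∣ m + 2 := hmx ▸ hlx.mul_left 2
    have h5 := Nat.mod_lt m hl.pos
    have h3 : (m % l + 2) % l = 0 := by rw [Nat.mod_add_mod]; exact Nat.dvd_iff_mod_eq_zero.1 hd
    rcases Nat.lt_or_ge (m % l + 2) l with h7 | h7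
    · rw [Nat.mod_eq_of_lt h7] at h3; omega
    · omega
  · push Not at h5
    have hxo : ∀ l, l.Prime → l ∣ x → l = 3 := by
      intro l hl hd
      by_contra hl3
      have hl2 : l ≠ 2 := by
        rintro rfl
        obtain ⟨f', rfl⟩ : ∃ f', f = f' + 1 := ⟨f - 1, by omega⟩
        rw [hx, pow_succ] at hd
        omega
      have h4 : l ≠ 4 := by rintro rfl; norm_num at hl
      have := hl.two_le
      exact h5 l hl (by omega) hd
    have hpow := Nat.eq_prime_pow_of_unique_prime_dvd (p := 3) (by omega : x ≠ 0) (fun {d} hd hdx => hxo d hd hdx)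
    have hf3 : f ≤ 3 := two_pow_eq_three_pow_sub_one (t := x.primeFactorsList.length) (by rw [← hx]; exact hpow)
    have he4 : f = 3 := by
      obtain ⟨s, hs⟩ := heven
      omega
    subst he4
    have := h 3 Nat.prime_three (by norm_num) (by norm_num [hm])
    norm_num [hm, S] at this

end CfsgLib.SymHall
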