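import Cfsg.Agent.SymHall.Prim
import Mathlib

/-!
Classification of Hall π-subgroups of symmetric and alternating groups (P. Hall, Thompson).
-/

set_option autoImplicit false
set_option linter.style.haveILetI false
set_option linter.unusedSectionVars false

namespace CfsgLib.SymHall

open Equiv Equiv.Perm MulAction
open scoped Pointwise

universe u

/-- Exactly the primes below `n`. -/
def Lt (π : Set ℕ) (n : ℕ) : Prop := ∀ r : ℕ, r.Prime → r ≤ n → (r ∈ π ↔ r < n)

/-- Exactly the primes 2 and 3. -/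
def TT (π : Set ℕ) (n : ℕ) : Prop := ∀ r : ℕ, r.Prime → r ≤ n → (r ∈ π ↔ (r = 2 ∨ r = 3))

/-- All primes up to `n`. -/
def All (π : Set ℕ) (n : ℕ) : Prop := ∀ r : ℕ, r.Prime → r ≤ n → r ∈ π

/-- At least two primes up to `n`. -/
def Two (π : Set ℕ) (n : ℕ) : Prop :=
  ∃ r s : ℕ, r.Prime ∧ s.Prime ∧ r ≠ s ∧ r ∈ π ∧ s ∈ π ∧ r ≤ n ∧ s ≤ n

/-- The three exceptional configurations. -/
def Case (π : Set ℕ) (n a : ℕ) : Prop :=
  (a = 1 ∧ n.Prime ∧ Lt π n) ∨ (a = 4 ∧ n = 7 ∧ TT π n) ∨ (a = 4 ∧ n = 8 ∧ TT π n)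

/-- `f` is one of the three exceptional bipartitions and `H` permutes its parts. -/
def Shape {α : Type u} [Fintype α] [DecidableEq α] (π : Set ℕ) (H : Subgroup (Perm α)) : Prop :=
  ∃ f : α → Bool, H ≤ blk f ∧ Case π (Fintype.card α) (Nat.card {x // f x = true})

theorem two_pow_ne_three {e t : ℕ} (h : 2 ^ e = 3 ^ t) : e = 0 := by
  by_contra he
  have := (Nat.prime_dvd_prime_iff_eq Nat.prime_two Nat.prime_three).1
    (Nat.prime_two.dvd_of_dvd_pow (h ▸ dvd_pow_self 2 he))
  omega

theorem three_le_of_two {π : Set ℕ} {n : ℕ} (h : Two π n) : 3 ≤ n := by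
  obtain ⟨r, s, hr, hs, hrs, -, -, hrn, hsn⟩ := h
  have := hr.two_le
  have := hs.two_le
  omega

theorem good_of_shape {α : Type u} [Fintype α] [DecidableEq α] {π : Set ℕ} {n : ℕ}
    (hn : Fintype.card α = n) {H : Subgroup (Perm α)} (h : Shape π H) :
    (n.Prime ∧ Lt π n) ∨ ((n = 7 ∨ n = 8) ∧ TT π n) := by
  subst hn
  obtain ⟨f, -, ⟨-, h⟩ | ⟨-, e, h⟩ | ⟨-, e, h⟩⟩ := h
  · exact Or.inl h
  · exact Or.inr ⟨Or.inl e, h⟩
  · exact Or.inr ⟨Or.inr e, h⟩

theorem classify_aux (π : Set ℕ) : ∀ n : ℕ, ∀ {α : Type u} [Fintype α] [DecidableEq α],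
    Fintype.card α = n → ∀ {G H : Subgroup (Perm α)}, Hyp π G H → Two π n → ¬ All π n → Shape π H := by
  intro n
  induction n using Nat.strong_induction_on with
  | _ n ih =>
  intro α _ _ hn G H h htwo hall
  classical
  have hn3 := three_le_of_two htwo
  have good : ∀ {β : Type u} [Fintype β] [DecidableEq β] {G' H' : Subgroup (Perm β)},
      Hyp π G' H' → Fintype.card β < n → Two π (Fintype.card β) →
      All π (Fintype.card β) ∨ ((Fintype.card β).Prime ∧ Lt π (Fintype.card β)) ∨
        ((Fintype.card β = 7 ∨ Fintype.card β = 8) ∧ TT π (Fintype.card β)) := by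
    intro β _ _ G' H' h' hlt ht
    by_cases hA : All π (Fintype.card β)
    · exact Or.inl hA
    · exact Or.inr (good_of_shape rfl (ih _ hlt rfl h' ht hA))
  by_cases htr : IsPretransitive H α
  swap
  · -- intransitive
    obtain ⟨f, hHf, hb, hba⟩ : ∃ f : α → Bool, H ≤ part f ∧ 1 ≤ Nat.card {x // f x = false} ∧
        Nat.card {x // f x = false} ≤ Nat.card {x // f x = true} := by
      obtain ⟨x₀⟩ : Nonempty α := Fintype.card_pos_iff.1 (by omega)
      let g : α → Bool := fun x => decide (x ∈ orbit H x₀)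
      have hg : H ≤ part g := by
        intro u hu x
        simp only [g, decide_eq_decide]
        rw [← orbit_eq_iff, ← orbit_eq_iff (a := x)]
        show orbit H ((⟨u, hu⟩ : H) • x) = _ ↔ _
        rw [orbit_smul]
      have hgt : 1 ≤ Nat.card {x // g x = true} :=
        Nat.card_pos_iff.2 ⟨⟨⟨x₀, by simp [g]⟩⟩, inferInstance⟩
      have hgf : 1 ≤ Nat.card {x // g x = false} := by
        refine Nat.card_pos_iff.2 ⟨?_, inferInstance⟩
        by_contra hne
        refine htr ((MulAction.isPretransitive_iff_base x₀).2 fun y => ?_)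
        by_contra hy
        exact hne ⟨⟨y, by simpa [g, MulAction.mem_orbit_iff] using hy⟩⟩
      rcases le_total (Nat.card {x // g x = false}) (Nat.card {x // g x = true}) with hle | hle
      · exact ⟨g, hg, hgf, hle⟩
      · refine ⟨fun x => !g x, fun u hu x => by simp only; rw [hg hu x], ?_⟩
        rw [Nat.card_congr (Equiv.subtypeEquivRight (q := fun x => g x = true) (fun x => by simp)),
          Nat.card_congr (α := {x // (!g x) = true}) (Equiv.subtypeEquivRight (q := fun x => g x = false) (fun x => by simp))]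
        exact ⟨hgt, hle⟩
    set a := Nat.card {x // f x = true} with ha
    set b := Nat.card {x // f x = false} with hb'
    have hcard : a + b = n := by
      rw [← hn, ← Nat.card_eq_fintype_card (α := α), ← Nat.card_congr (Equiv.sigmaFiberEquiv f), Nat.card_sigma,
        Fintype.sum_bool]
    have ha2 : 2 ≤ a := by omega
    -- an odd element
    obtain ⟨x, y, hxy, hfxy⟩ : ∃ x y : α, x ≠ y ∧ f x = f y := by
      haveI : Nontrivial {x // f x = true} := Finite.one_lt_card_iff_nontrivial.1 ha2
      obtain ⟨⟨x, hx⟩, ⟨y, hy⟩, hne⟩ := exists_pair_ne {x // f x = true}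
      exact ⟨x, y, fun e => hne (Subtype.ext e), hx.trans hy.symm⟩
    have hidx := index_dvd_of_odd h hHf (swap_mem_part hfxy) (sign_swap hxy)
    have hch : (part f).index = n.choose a := by
      have h1 := (part f).card_mul_index
      rw [card_part, Fintype.prod_bool, ← ha, ← hb', Nat.card_perm, Nat.card_eq_fintype_card, hn] at h1
      have h2 := Nat.choose_mul_factorial_mul_factorial (show a ≤ n by omega)
      rw [show n - a = b by omega] at h2
      refine Nat.eq_of_mul_eq_mul_left (show 0 < a.factorial * b.factorial by positivity) ?_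
      rw [h1, ← h2]; ring
    have hfree : ∀ p, p.Prime → p ∈ π → Free p a b := fun p hp hpπ =>
      free_of_not_dvd_choose hp fun hd =>
        h.index p hp hpπ ((show p ∣ (part f).index by rw [hch, ← hcard]; exact hd).trans hidx)
    have hle : ∀ p, p.Prime → p ∈ π → p ≤ n → p ≤ a := by
      intro p hp hpπ hpn
      by_contra hpa
      have := hfree p hp hpπ 1 le_rfl
      rw [pow_one, Nat.mod_eq_of_lt (by omega), Nat.mod_eq_of_lt (by omega)] at this
      omega
    have htwo' : Two π a := by
      obtain ⟨r, s, hr, hs, hrs, hrπ, hsπ, hrn, hsn⟩ := htwo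
      exact ⟨r, s, hr, hs, hrs, hrπ, hsπ, hle r hr hrπ hrn, hle s hs hsπ hsn⟩
    have ha3 := three_le_of_two htwo'
    obtain ⟨G', H', h'⟩ := h.proj (hHf.trans (part_le_blk f)) true
    have hca : Fintype.card {x // f x = true} = a := by rw [ha, Nat.card_eq_fintype_card]
    have hgood := good h' (by omega) (hca.symm ▸ htwo')
    rw [hca] at hgood
    rcases hgood with hA | ⟨hap, hA⟩ | ⟨h78, hA⟩
    · rcases carry_free_small ha3 hb hba (fun l hl hla => hfree l hl (hA l hl hla)) with ⟨hb1, hp⟩ | ⟨ha4, hb3⟩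
      · refine ⟨fun x => !f x, fun u hu x y => by simp only; rw [hHf hu x, hHf hu y], Or.inl ⟨?_, ?_, ?_⟩⟩
        · rw [Nat.card_congr (Equiv.subtypeEquivRight (q := fun x => f x = false) (fun x => by simp))]
          exact hb1
        · rw [hn, ← hcard, hb1]; exact hp
        · rw [hn]
          intro r hr hrn
          refine ⟨fun hrπ => ?_, fun hlt => hA r hr (by omega)⟩
          have := hle r hr hrπ hrn
          omega
      · refine ⟨f, hHf.trans (part_le_blk f), Or.inr (Or.inl ⟨ha4, by omega, ?_⟩)⟩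
        rw [hn]
        intro r hr hrn
        refine ⟨fun hrπ => ?_, fun h23 => hA r hr (by omega)⟩
        have := hle r hr hrπ hrn
        have := hr.two_le
        have : r ≠ 4 := by rintro rfl; norm_num at hr
        omega
    · exact (carry_free_prime hap ha3 hb hba fun l hl hla => hfree l hl ((hA l hl hla.le).2 hla)).elim
    · exfalso
      rcases h78 with e | e
      · have := hfree 2 Nat.prime_two ((hA 2 Nat.prime_two (by omega)).2 (Or.inl rfl)) 3 (by norm_num)
        norm_num [e] at this
        omega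
      · have := hfree 3 Nat.prime_three ((hA 3 Nat.prime_three (by omega)).2 (Or.inr rfl)) 2 (by norm_num)
        norm_num [e] at this
        omega
  haveI := htr
  obtain ⟨o, ho, hon, hoπ⟩ : ∃ o : ℕ, o.Prime ∧ o ≤ n ∧ o ∉ π := by
    simpa [All] using hall
  by_cases hprim : IsPreprimitive H α
  · obtain ⟨r, s, hr, hs, hrs, hrπ, hsπ, hrn, hsn⟩ := htwo
    exact (h.not_primitive hprim hr hs hrs hrπ hsπ (hn ▸ hrn) (hn ▸ hsn) ho hoπ (hn ▸ hon)).elim
  -- blocks
  obtain ⟨B, hB, hB1, hB2⟩ : ∃ B : Set α, IsBlock H B ∧ B.Nontrivial ∧ B ≠ Set.univ := by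
    by_contra hc
    push Not at hc
    refine hprim ⟨fun {B} hB => ?_⟩
    rcases B.subsingleton_or_nontrivial with hs | hn'
    · exact Or.inl hs
    · exact Or.inr (hc B hB hn')
  haveI : Fintype (orbit H B) := Fintype.ofFinite _
  have hcov : ∀ x : α, ∃ C : orbit H B, x ∈ (C : Set α) := by
    intro x
    obtain ⟨b, hb⟩ := hB1.nonempty
    obtain ⟨g, hg⟩ := MulAction.exists_smul_eq H b x
    exact ⟨⟨g • B, mem_orbit B g⟩, ⟨b, hb, hg⟩⟩
  choose f hf using hcov
  have huniq : ∀ (x : α) (C : orbit H B), x ∈ (C : Set α) → f x = C := by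
    intro x C hC
    obtain ⟨g, hg⟩ := C.2
    obtain ⟨g', hg'⟩ := (f x).2
    refine Subtype.ext ?_
    by_contra hne
    rw [← hg, ← hg'] at hne
    have e1 : x ∈ g • B := by rw [show g • B = (C : Set α) from hg]; exact hC
    have e2 : x ∈ g' • B := by rw [show g' • B = (f x : Set α) from hg']; exact hf x
    exact Set.disjoint_left.1 (hB hne) e2 e1
  have hequiv : ∀ (u : H) (x : α), f (u • x) = u • f x := fun u x =>
    huniq _ _ (by rw [MulAction.orbit.coe_smul]; exact Set.smul_mem_smul_set (hf x))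
  have hHf : H ≤ blk f := by
    intro u hu x y
    rw [show (u : Perm α) x = (⟨u, hu⟩ : H) • x from rfl, show (u : Perm α) y = (⟨u, hu⟩ : H) • y from rfl,
      hequiv, hequiv, smul_left_cancel_iff]
  set m := B.ncard with hm
  set k := Fintype.card (orbit H B) with hk
  have hfib : ∀ C : orbit H B, Nat.card {x // f x = C} = m := by
    intro C
    obtain ⟨g, hg⟩ := C.2
    rw [Nat.card_congr (Equiv.subtypeEquivRight (p := fun x => f x = C) (q := fun x => x ∈ (C : Set α))
      (fun x => ⟨fun e => by rw [← e]; exact hf x, huniq x C⟩))]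
    show Nat.card ↥(C : Set α) = m
    rw [Nat.card_coe_set_eq, ← show g • B = (C : Set α) from hg, Set.ncard_smul_set, hm]
  have hsurj : Function.Surjective f := by
    intro C
    obtain ⟨g, hg⟩ := C.2
    obtain ⟨b, hb⟩ := hB1.nonempty
    refine ⟨g • b, huniq _ _ ?_⟩
    rw [← show g • B = (C : Set α) from hg]
    exact Set.smul_mem_smul_set hb
  have hmk : k * m = n := by
    have := hB.ncard_block_mul_ncard_orbit_eq hB1.nonempty
    rw [← Nat.card_coe_set_eq (orbit H B), Nat.card_eq_fintype_card, Nat.card_eq_fintype_card, hn] at this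
    rw [mul_comm]; exact this
  have hm2 : 2 ≤ m := (Set.one_lt_ncard_iff_nontrivial).2 hB1
  have hmn : m < n := by
    have := Set.ncard_lt_ncard (Set.ssubset_univ_iff.2 hB2)
    rwa [Set.ncard_univ, Nat.card_eq_fintype_card, hn] at this
  have hk2 : 2 ≤ k := by
    by_contra hk2
    have : k * m ≤ 1 * m := Nat.mul_le_mul_right m (by omega)
    omega
  obtain ⟨x, hx, y, hy, hxy⟩ := hB1
  have hidx := index_dvd_of_odd h hHf
    (part_le_blk f (swap_mem_part ((huniq x ⟨B, mem_orbit_self B⟩ hx).trans (huniq y ⟨B, mem_orbit_self B⟩ hy).symm)))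
    (sign_swap hxy)
  have hcardW : Nat.card (blk f) ∣ k.factorial * m.factorial ^ k := by
    refine (card_blk_dvd hsurj).trans (dvd_of_eq ?_)
    rw [card_part, ← hk, Finset.prod_congr rfl (fun C _ => congrArg Nat.factorial (hfib C)),
      Finset.prod_const, Finset.card_univ, ← hk]
  have hineq : ∀ p, p.Prime → p ∈ π → k * S p m + S p k ≤ S p (k * m) + k := by
    intro p hp hpπ
    haveI := Fact.mk hp
    refine wreath_ineq hp ?_
    have h1 : padicValNat p (Nat.card (blk f)) = padicValNat p (k * m).factorial := by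
      have h2 := (blk f).card_mul_index
      rw [Nat.card_perm, Nat.card_eq_fintype_card (α := α), hn, ← hmk] at h2
      rw [← h2, padicValNat.mul Nat.card_pos.ne' Subgroup.index_ne_zero_of_finite,
        padicValNat.eq_zero_of_not_dvd fun hd => h.index p hp hpπ (hd.trans hidx), add_zero]
    rw [← h1]
    refine ((padicValNat_dvd_iff_le (by positivity)).1 (pow_padicValNat_dvd.trans hcardW)).trans (le_of_eq ?_)
    rw [padicValNat.mul (Nat.factorial_ne_zero _) (pow_ne_zero _ (Nat.factorial_ne_zero _)),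
      padicValNat.pow, Nat.add_comm]
  have hcases : ∀ p, p.Prime → p ∈ π → p ≤ n → (S p m = 1 ∨ k < p) ∧ p ≤ m := fun p hp hpπ hpn =>
    wreath_cases hp hk2 hm2 (hmk.symm ▸ hpn) (hineq p hp hpπ)
  have htwo' : Two π m := by
    obtain ⟨r, s, hr, hs, hrs, hrπ, hsπ, hrn, hsn⟩ := htwo
    exact ⟨r, s, hr, hs, hrs, hrπ, hsπ, (hcases r hr hrπ hrn).2, (hcases s hs hsπ hsn).2⟩
  have hm3 := three_le_of_two htwo'
  obtain ⟨G', H', h'⟩ := h.proj hHf (f x)
  have hcm : Fintype.card {z // f z = f x} = m := by rw [← Nat.card_eq_fintype_card, hfib]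
  have hgood := good h' (by omega) (hcm.symm ▸ htwo')
  rw [hcm] at hgood
  have pow2 : 2 ∈ π → ∃ e, m = 2 ^ e := fun h2 => by
    rcases (hcases 2 Nat.prime_two h2 (by omega)).1 with e | e
    · exact eq_pow_of_S_eq_one (by norm_num) m e
    · omega
  rcases hgood with hA | ⟨hmp, hA⟩ | ⟨h78, hA⟩
  · obtain ⟨e, he⟩ := pow2 (hA 2 Nat.prime_two (by omega))
    have hk3 : k = 2 := by
      rcases (hcases 3 Nat.prime_three (hA 3 Nat.prime_three hm3) (by omega)).1 with h1 | h1
      · obtain ⟨t, ht⟩ := eq_pow_of_S_eq_one (by norm_num) m h1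
        have := two_pow_ne_three (he ▸ ht)
        subst this
        omega
      · omega
    have he2 : e = 2 := by
      rcases Nat.lt_or_ge e 3 with h3 | h3
      · interval_cases e <;> omega
      · exfalso
        refine two_pow_double h3 fun l hl hl2 hlm => ?_
        have := hineq l hl (hA l hl (he ▸ hlm))
        rw [hk3, he, S_of_lt hl.one_lt (show 2 < l by have := hl.two_le; omega)] at this
        omega
    have hm4 : m = 4 := by rw [he, he2]; norm_num
    have h8 : n = 8 := by rw [← hmk, hk3, hm4]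
    obtain ⟨eι⟩ : Nonempty (orbit H B ≃ Bool) := ⟨Fintype.equivOfCardEq (by rw [← hk, hk3, Fintype.card_bool])⟩
    refine ⟨fun z => eι (f z), fun u hu z w => ?_, Or.inr (Or.inr ⟨?_, by omega, ?_⟩)⟩
    · simp only [EmbeddingLike.apply_eq_iff_eq]
      exact hHf hu z w
    · rw [Nat.card_congr (Equiv.subtypeEquivRight (q := fun z => f z = eι.symm true)
        (fun z => eι.eq_symm_apply.symm)), hfib, hm4]
    · rw [hn]
      intro r hr hrn
      refine ⟨fun hrπ => ?_, fun h23 => hA r hr (by omega)⟩
      have := (hcases r hr hrπ hrn).2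
      have := hr.two_le
      have : r ≠ 4 := by rintro rfl; norm_num at hr
      omega
  · exfalso
    obtain ⟨e, he⟩ := pow2 ((hA 2 Nat.prime_two (by omega)).2 (by omega))
    have := (Nat.prime_dvd_prime_iff_eq Nat.prime_two hmp).1 (he ▸ dvd_pow_self 2 (by rintro rfl; omega))
    omega
  · exfalso
    rcases h78 with e | e
    · obtain ⟨i, hi⟩ := pow2 ((hA 2 Nat.prime_two (by omega)).2 (Or.inl rfl))
      rw [e] at hi
      rcases Nat.lt_or_ge i 3 with h3 | h3
      · interval_cases i <;> omega
      · have := Nat.pow_le_pow_right (show 2 > 0 by norm_num) h3; omega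
    · have h3π : 3 ∈ π := (hA 3 Nat.prime_three (by omega)).2 (Or.inr rfl)
      have h1 := (hcases 3 Nat.prime_three h3π (by omega)).1
      have h2 := hineq 3 Nat.prime_three h3π
      rw [e] at h1 h2
      rcases h1 with h1 | h1
      · norm_num [S] at h1
      · have hk22 : k = 2 := by omega
        rw [hk22] at h2
        norm_num [S] at h2

/-- Hall's classification. -/
theorem classify {α : Type u} [Fintype α] [DecidableEq α] {π : Set ℕ} {G H : Subgroup (Perm α)}
    (h : Hyp π G H) (htwo : Two π (Fintype.card α)) (hall : ¬ All π (Fintype.card α)) : Shape π H :=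
  classify_aux π _ rfl h htwo hall

end CfsgLib.SymHall
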