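import Cfsg.Agent.SymHall.Setup
import Cfsg.Agent.FGSB.Jordan
import Cfsg.Agent.Perm.MarggraffAlt
import Mathlib

/-!
A Hall π-subgroup of a symmetric or alternating group with two primes in π and one outside is not primitive.
-/

set_option autoImplicit false
set_option linter.style.haveILetI false
set_option linter.unusedSectionVars false

namespace CfsgLib.SymHall

open Equiv Equiv.Perm MulAction
open scoped Pointwise

variable {α : Type*} [Fintype α] [DecidableEq α]

theorem prime_dvd_card_alt {n r : ℕ} (hn : Fintype.card α = n) (h4 : 4 ≤ n) (hr : r.Prime) (hrn : r ≤ n) :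
    r ∣ Nat.card (alternatingGroup α) := by
  haveI : Nontrivial α := Fintype.one_lt_card_iff_nontrivial.1 (by omega)
  have h2 : 2 * Nat.card (alternatingGroup α) = n.factorial := by
    rw [Nat.card_eq_fintype_card, two_mul_card_alternatingGroup, Fintype.card_perm, hn]
  have hrf : r ∣ n.factorial := hr.dvd_factorial.2 hrn
  rcases eq_or_ne r 2 with rfl | hr2
  · have h : 2 * 2 ∣ n.factorial :=
      (show (2 * 2 : ℕ) ∣ Nat.factorial 4 by decide).trans (Nat.factorial_dvd_factorial h4)
    rw [← h2] at h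
    exact (Nat.mul_dvd_mul_iff_left two_pos).1 h
  · rw [← h2] at hrf
    exact ((Nat.coprime_primes hr Nat.prime_two).2 hr2).dvd_of_dvd_mul_left hrf

theorem Hyp.not_alt_le {π : Set ℕ} {G H : Subgroup (Perm α)} (h : Hyp π G H) (h4 : 4 ≤ Fintype.card α)
    {r : ℕ} (hr : r.Prime) (hrn : r ≤ Fintype.card α) (hrπ : r ∉ π) : ¬ alternatingGroup α ≤ H :=
  fun hA => hrπ (h.pi r hr ((prime_dvd_card_alt rfl h4 hr hrn).trans (Subgroup.card_dvd_of_le hA)))

theorem Hyp.exists_cycle {π : Set ℕ} {G H : Subgroup (Perm α)} (h : Hyp π G H) {p : ℕ} (hp : p.Prime)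
    (hp2 : p ≠ 2) (hpπ : p ∈ π) (hpn : p ≤ Fintype.card α) :
    ∃ c ∈ H, c.IsCycle ∧ c.support.card = p := by
  obtain ⟨c, hc⟩ := (Equiv.Perm.exists_with_cycleType_iff (α := α) (m := {p})).2
    ⟨by simpa using hpn, by simp [hp.two_le]⟩
  have hcyc : c.IsCycle := card_cycleType_eq_one.1 (by rw [hc]; rfl)
  have hsupp : c.support.card = p := by rw [← sum_cycleType, hc]; simp
  have hodd : Odd p := hp.odd_of_ne_two hp2
  have hA : c ∈ alternatingGroup α := by
    rw [mem_alternatingGroup, hcyc.sign, hsupp, hodd.neg_one_pow, neg_neg]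
  have hP : IsPGroup p (Subgroup.zpowers c) :=
    IsPGroup.of_card (n := 1) (by rw [Nat.card_zpowers, hcyc.orderOf, hsupp, pow_one])
  obtain ⟨g, -, hg⟩ := h.pow_group_conj hp hpπ hP (by rw [Subgroup.zpowers_le]; exact h.alt_le hA)
  exact ⟨g * c * g⁻¹, hg c (Subgroup.mem_zpowers c), hcyc.conj, by rw [card_support_conj, hsupp]⟩

/-- The Klein four group on four points. -/
def klein : Subgroup (Perm (Fin 4)) where
  carrier := {g | g = 1 ∨ g = swap 0 1 * swap 2 3 ∨ g = swap 0 2 * swap 1 3 ∨ g = swap 0 3 * swap 1 2}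
  one_mem' := Or.inl rfl
  mul_mem' := fun {a b} ha hb => by
    rcases ha with rfl | rfl | rfl | rfl <;> rcases hb with rfl | rfl | rfl | rfl <;>
      (simp only [Set.mem_ofPred_eq]; decide)
  inv_mem' := fun {a} ha => by
    rcases ha with rfl | rfl | rfl | rfl <;> (simp only [Set.mem_ofPred_eq]; decide)

theorem Hyp.four_set {π : Set ℕ} {G H : Subgroup (Perm α)} (h : Hyp π G H) (h2 : 2 ∈ π)
    (h4 : 4 ≤ Fintype.card α) :
    ∃ Γ : Finset α, Γ.card = 4 ∧ ∀ x ∈ Γ, ∀ y ∈ Γ, ∃ g : H, (∀ z ∉ Γ, g • z = z) ∧ g • x = y := by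
  classical
  obtain ⟨e⟩ : Nonempty (Fin 4 ↪ α) := Function.Embedding.nonempty_of_card_le (by simpa using h4)
  let E : Subgroup (Perm α) := klein.map (viaEmbeddingHom e)
  have hsq : ∀ v ∈ klein, v ^ 2 = 1 ∧ sign v = 1 := by
    intro v hv
    rcases hv with rfl | rfl | rfl | rfl <;> decide
  have hE : IsPGroup 2 E := by
    rintro ⟨_, v, hv, rfl⟩
    exact ⟨1, Subtype.ext (by simp [← map_pow, (hsq v hv).1])⟩
  have hEA : E ≤ G := by
    rintro _ ⟨v, hv, rfl⟩
    refine h.alt_le ?_
    rw [mem_alternatingGroup, viaEmbeddingHom_apply, Equiv.Perm.viaEmbedding]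
    simp [(hsq v hv).2]
  obtain ⟨g, -, hg⟩ := h.pow_group_conj Nat.prime_two h2 hE hEA
  refine ⟨(Finset.univ.map e).map g.toEmbedding, by simp, fun x hx y hy => ?_⟩
  simp only [Finset.mem_map, Finset.mem_univ, true_and, Equiv.toEmbedding_apply,
    exists_exists_eq_and] at hx hy
  obtain ⟨i, rfl⟩ := hx
  obtain ⟨j, rfl⟩ := hy
  have htr : ∀ a b : Fin 4, ((1 : Perm (Fin 4)) a = b ∨ (swap 0 1 * swap 2 3 : Perm (Fin 4)) a = b) ∨
      ((swap 0 2 * swap 1 3 : Perm (Fin 4)) a = b ∨ (swap 0 3 * swap 1 2 : Perm (Fin 4)) a = b) := by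
    decide
  obtain ⟨v, hv, hvi⟩ : ∃ v ∈ klein, v i = j := by
    rcases htr i j with (h' | h') | (h' | h')
    · exact ⟨_, Or.inl rfl, h'⟩
    · exact ⟨_, Or.inr (Or.inl rfl), h'⟩
    · exact ⟨_, Or.inr (Or.inr (Or.inl rfl)), h'⟩
    · exact ⟨_, Or.inr (Or.inr (Or.inr rfl)), h'⟩
  refine ⟨⟨_, hg _ ⟨v, hv, rfl⟩⟩, fun z hz => ?_, ?_⟩
  · show g (viaEmbeddingHom e v (g⁻¹ z)) = z
    rw [viaEmbeddingHom_apply, viaEmbedding_apply_of_notMem]
    · simp
    · rintro ⟨a, ha⟩
      refine hz ?_
      simp only [Finset.mem_map, Finset.mem_univ, true_and, Equiv.toEmbedding_apply, exists_exists_eq_and]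
      exact ⟨a, by rw [ha]; simp⟩
  · show g (viaEmbeddingHom e v (g⁻¹ (g (e i)))) = g (e j)
    rw [show g⁻¹ (g (e i)) = e i by simp, viaEmbeddingHom_apply, viaEmbedding_apply, hvi]

/-- The alternating group of degree five has no subgroup of index three. -/
theorem no_index_three (hn : Fintype.card α = 5) (K : Subgroup (alternatingGroup α)) : K.index ≠ 3 := by
  intro hK
  haveI : IsSimpleGroup (alternatingGroup α) :=
    alternatingGroup.isSimpleGroup (by rw [Nat.card_eq_fintype_card, hn])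
  haveI : Nontrivial α := Fintype.one_lt_card_iff_nontrivial.1 (by omega)
  rcases (Subgroup.normalCore_normal K).eq_bot_or_eq_top with h | h
  · have h1 := Subgroup.index_ne_zero_of_finite (H := K)
    have h2 : Nat.card (alternatingGroup α) ∣ Nat.card (Perm (alternatingGroup α ⧸ K)) :=
      Subgroup.card_dvd_of_injective (MulAction.toPermHom _ _)
        ((MonoidHom.ker_eq_bot_iff _).1 (by rw [← Subgroup.normalCore_eq_ker, h]))
    rw [Nat.card_perm, ← Subgroup.index_eq_card, hK] at h2
    have h3 := two_mul_nat_card_alternatingGroup (α := α)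
    rw [Nat.card_perm, Nat.card_eq_fintype_card (α := α), hn] at h3
    rw [show Nat.factorial 5 = 120 from rfl] at h3
    rw [show Nat.card (alternatingGroup α) = 60 by omega] at h2
    norm_num [Nat.factorial] at h2
  · have : K = ⊤ := top_le_iff.1 (h ▸ Subgroup.normalCore_le K)
    rw [this, Subgroup.index_top] at hK
    omega

/-- Degrees 7 and 8 with π ∩ primes = {2, 7}. -/
theorem seven_false {H K : Subgroup (Perm α)} (hKA : K ≤ alternatingGroup α) (hKH : K ≤ H)
    (hnorm : ∀ h ∈ H, ∀ k ∈ K, h * k * h⁻¹ ∈ K) [IsPretransitive H α]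
    {c : Perm α} (hc : c.IsCycle) (hcs : c.support.card = 7) (hcK : c ∈ K)
    (hn : Fintype.card α = 7 ∧ Nat.card K = 56 ∨ Fintype.card α = 8 ∧ Nat.card K = 448) : False := by
  classical
  haveI : Fact (Nat.Prime 7) := ⟨by norm_num⟩
  haveI : Fact (Nat.Prime 2) := ⟨Nat.prime_two⟩
  let c' : K := ⟨c, hcK⟩
  have hoc : orderOf c' = 7 := by rw [← Subgroup.orderOf_coe]; show orderOf c = 7; rw [hc.orderOf, hcs]
  -- the centralizer of `c`
  have hcent : Nat.card (Subgroup.centralizer {c}) = 7 := by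
    rw [nat_card_centralizer, hc.cycleType, hcs]
    rcases hn with ⟨h, -⟩ | ⟨h, -⟩ <;> simp [h]
  set C := Subgroup.zpowers c'
  have hC : Nat.card C = 7 := by rw [Nat.card_zpowers, hoc]
  have hP : IsPGroup 7 C := IsPGroup.of_card (n := 1) (by rw [hC, pow_one])
  have hCindex : Nat.card C * C.index = Nat.card K := C.card_mul_index
  have hCi : ¬ 7 ∣ C.index := by rw [hC] at hCindex; rcases hn with ⟨-, h⟩ | ⟨-, h⟩ <;> omega
  let P : Sylow 7 K := hP.toSylow hCi
  have hPC : (P : Subgroup K) = C := rfl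
  -- normaliser bound
  have hN : Nat.card (Subgroup.normalizer (C : Set K)) ∣ 42 := by
    rw [← C.normalizerMonoidHom.ker.index_mul_card, Subgroup.index_ker,
      show (42 : ℕ) = 6 * 7 from rfl]
    refine Nat.mul_dvd_mul ((Subgroup.card_subgroup_dvd_card _).trans ?_) ?_
    · rw [IsCyclic.card_mulAut, hC, Nat.totient_prime (by norm_num)]
    · rw [Subgroup.normalizerMonoidHom_ker, ← hcent]
      refine Subgroup.card_dvd_of_injective
        ({ toFun := fun x => ⟨((x : Subgroup.normalizer (C : Set K)) : K), by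
              rw [Subgroup.mem_centralizer_singleton_iff]
              exact congrArg Subtype.val ((Subgroup.mem_subgroupOf.1 x.2) c' (Subgroup.mem_zpowers c')).symm⟩
           map_one' := rfl, map_mul' := fun _ _ => rfl } :
          ((Subgroup.centralizer (C : Set K)).subgroupOf (Subgroup.normalizer (C : Set K))) →*
            Subgroup.centralizer {c}) ?_
      intro x y hxy
      exact Subtype.ext (Subtype.ext (Subtype.ext (congrArg Subtype.val hxy :)))
  have hsyl : Nat.card (Sylow 7 K) = (Subgroup.normalizer (C : Set K)).index := by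
    exact P.card_eq_index_normalizer
  have hmod := card_sylow_modEq_one 7 K
  rw [hsyl] at hmod
  have hNi := (Subgroup.normalizer (C : Set K)).card_mul_index
  have hC7 : Nat.card (Subgroup.normalizer (C : Set K)) = 7 := by
    set N := Nat.card (Subgroup.normalizer (C : Set K))
    have hle : N ≤ 42 := Nat.le_of_dvd (by norm_num) hN
    have h7 : 7 ∣ N := hC ▸ Subgroup.card_dvd_of_le Subgroup.le_normalizer
    obtain ⟨d, hd⟩ := h7
    rw [Nat.ModEq] at hmod
    rw [hd] at hNi hN
    have hd6 : d ≤ 6 := by omega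
    have hKd : 7 * d ∣ Nat.card K := Dvd.intro _ hNi
    rcases hn with ⟨-, h⟩ | ⟨-, h⟩ <;> rw [h] at hNi hKd <;>
      interval_cases d <;> (try norm_num at hKd hN ⊢) <;> (try omega)
  have hNC : Subgroup.normalizer (C : Set K) = C :=
    (Subgroup.eq_of_le_of_card_ge Subgroup.le_normalizer (by rw [hC7, hC])).symm
  have hle : Subgroup.normalizer ((P : Subgroup K) : Set K) ≤ Subgroup.centralizer ((P : Subgroup K) : Set K) := by
    rw [hPC, hNC]
    intro x hx y hy
    exact congrArg Subtype.val (mul_comm' (⟨y, hy⟩ : C) ⟨x, hx⟩)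
  have hcompl := MonoidHom.ker_transferSylow_isComplement' P hle
  set T := (MonoidHom.transferSylow P hle).ker
  have hT : Nat.card T = Nat.card K / 7 := by
    have := hcompl.card_mul
    rw [hPC, hC] at this
    omega
  have hT2 : IsPGroup 2 T := by
    rcases hn with ⟨-, h⟩ | ⟨-, h⟩
    · exact IsPGroup.of_card (n := 3) (hT.trans (by rw [h]; norm_num))
    · exact IsPGroup.of_card (n := 6) (hT.trans (by rw [h]; norm_num))
  -- transitivity
  have hcmove : ∀ x y, x ∈ c.support → y ∈ c.support → ∃ j : ℕ, (c ^ j) x = y :=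
    fun x y hx hy => hc.exists_pow_eq (mem_support.1 hx) (mem_support.1 hy)
  have hout : (c.supportᶜ).card ≤ 1 := by
    rw [Finset.card_compl, hcs]; omega
  have htr : IsPretransitive K α := by
    obtain ⟨x, hx⟩ : c.support.Nonempty := Finset.card_pos.1 (by omega)
    rw [MulAction.isPretransitive_iff_base x]
    intro y
    by_cases hy : y ∈ c.support
    · obtain ⟨j, hj⟩ := hcmove x y hx hy
      exact ⟨c' ^ j, by rw [Subgroup.smul_def, SubgroupClass.coe_pow]; exact hj⟩
    · obtain ⟨⟨u, hu⟩, hxy⟩ := MulAction.exists_smul_eq H y x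
      have hmov : (u⁻¹ * c * u) y ≠ y := by
        intro hfix
        have : c (u y) = u y := by
          have := congrArg u hfix
          simpa using this
        exact mem_support.1 hx (by rwa [show u y = x from hxy] at this)
      have hk : u⁻¹ * c * u ∈ K := by simpa using hnorm u⁻¹ (inv_mem hu) c hcK
      set z := (u⁻¹ * c * u) y with hz
      have hzs : z ∈ c.support := by
        by_contra hzs
        exact hmov (Finset.card_le_one.1 hout z (by simpa using hzs) y (by simpa using hy))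
      obtain ⟨j, hj⟩ := hcmove x z hx hzs
      refine ⟨(⟨_, hk⟩ : K)⁻¹ * c' ^ j, ?_⟩
      rw [mul_smul, Subgroup.smul_def (c' ^ j), SubgroupClass.coe_pow, inv_smul_eq_iff]
      exact hj
  -- primitivity
  haveI : IsPreprimitive K α := by
    rcases hn with ⟨h, -⟩ | ⟨h, -⟩
    · exact IsPreprimitive.of_prime_card (by rw [Nat.card_eq_fintype_card, h]; norm_num)
    · refine ⟨fun {B} hB => ?_⟩
      by_contra hnt
      simp only [IsTrivialBlock, not_or, Set.not_subsingleton_iff] at hnt
      obtain ⟨hnt1, hnt2⟩ := hnt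
      obtain ⟨x₀, hx₀⟩ : (c.supportᶜ).Nonempty := Finset.card_pos.1 (by rw [Finset.card_compl, hcs, h]; norm_num)
      obtain ⟨b, hb⟩ := hnt1.nonempty
      obtain ⟨g, hg⟩ := MulAction.exists_smul_eq K b x₀
      have hB' : IsBlock K (g • B) := hB.translate g
      have hx : x₀ ∈ g • B := ⟨b, hb, hg⟩
      have hcB : ∀ j : ℕ, (c' ^ j) • (g • B) = g • B := by
        intro j
        by_contra hne
        have hfix : (c' ^ j) • x₀ = x₀ := by
          rw [Subgroup.smul_def, SubgroupClass.coe_pow]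
          exact Function.IsFixedPt.perm_pow (by simpa [Function.IsFixedPt] using hx₀) j
        refine Set.disjoint_left.1 (hB' (g₁ := c' ^ j) (g₂ := 1) (by rwa [one_smul])) ⟨x₀, hx, hfix⟩ ?_
        rwa [one_smul]
      have hall : g • B = Set.univ := by
        obtain ⟨y, hy, hyx⟩ := Set.exists_ne_of_one_lt_ncard
          (by rw [Set.ncard_smul_set]; exact Set.one_lt_ncard_iff_nontrivial.2 hnt1 : 1 < (g • B).ncard) x₀
        refine Set.eq_univ_of_forall fun z => ?_
        have hys : y ∈ c.support := by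
          by_contra hys
          exact hyx (Finset.card_le_one.1 hout y (by simpa using hys) x₀ (by simpa using hx₀))
        by_cases hzs : z ∈ c.support
        · obtain ⟨j, hj⟩ := hcmove y z hys hzs
          rw [← hcB j]
          exact ⟨y, hy, by
            show ((c' ^ j : K) : Perm α) y = z
            rw [SubgroupClass.coe_pow]
            exact hj⟩
        · rwa [Finset.card_le_one.1 hout z (by simpa using hzs) x₀ (by simpa using hx₀)]
      apply hnt2
      rw [← inv_smul_smul g B, hall, Set.smul_set_univ]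
  -- a central 2-subgroup of the normal complement
  haveI : Nontrivial T := Finite.one_lt_card_iff_nontrivial.1 (by rw [hT]; rcases hn with ⟨-, h⟩ | ⟨-, h⟩ <;> omega)
  haveI := hT2.center_nontrivial
  obtain ⟨⟨z, hz⟩, hz1⟩ := exists_ne (1 : Subgroup.center T)
  let Z : Subgroup K := (Subgroup.center T).map T.subtype
  haveI : Z.Normal := by
    refine ⟨?_⟩
    rintro _ ⟨a, ha, rfl⟩ k
    refine ⟨⟨k * a * k⁻¹, (MonoidHom.normal_ker _).conj_mem _ a.2 k⟩, ?_, rfl⟩
    rw [SetLike.mem_coe, Subgroup.mem_center_iff] at ha ⊢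
    intro b
    have hb : k⁻¹ * b * k ∈ T := by
      have h := (MonoidHom.normal_ker _).conj_mem _ b.2 k⁻¹
      rwa [inv_inv] at h
    have := congrArg Subtype.val (ha ⟨_, hb⟩)
    simp only [Subgroup.coe_mul] at this
    refine Subtype.ext ?_
    simp only [Subgroup.coe_mul]
    calc (b : K) * (k * a * k⁻¹) = k * (k⁻¹ * b * k * a) * k⁻¹ := by group
      _ = k * (a * (k⁻¹ * b * k)) * k⁻¹ := by rw [this]
      _ = _ := by group
  have hZfix : fixedPoints Z α ≠ .univ := by
    intro hZ
    apply hz1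
    refine Subtype.ext (Subtype.ext (Subtype.ext (Equiv.ext fun x => ?_)))
    have hx : x ∈ fixedPoints Z α := hZ ▸ Set.mem_univ x
    exact hx ⟨_, z, hz, rfl⟩
  haveI := IsQuasiPreprimitive.isPretransitive_of_normal (G := K) hZfix
  obtain ⟨x₁⟩ : Nonempty α := Fintype.card_pos_iff.1 (by omega)
  have hinj : Function.Injective fun t : T => ((t : K) : Perm α) x₁ := by
    intro s t hst
    refine Subtype.ext (Subtype.ext (Equiv.ext fun x => ?_))
    obtain ⟨⟨_, w, hw, rfl⟩, hwx⟩ := MulAction.exists_smul_eq Z x₁ x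
    rw [SetLike.mem_coe, Subgroup.mem_center_iff] at hw
    have es := congrArg (fun u : T => ((u : K) : Perm α) x₁) (hw s)
    have et := congrArg (fun u : T => ((u : K) : Perm α) x₁) (hw t)
    simp only [Subgroup.coe_mul, Perm.mul_apply] at es et
    rw [← hwx]
    exact es.trans ((congrArg _ hst).trans et.symm)
  have := Nat.card_le_card_of_injective _ hinj
  rw [hT, Nat.card_eq_fintype_card (α := α)] at this
  rcases hn with ⟨h, h'⟩ | ⟨h, h'⟩ <;> omega

/-- A Hall π-subgroup with two primes in π and one outside is not primitive. -/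
theorem Hyp.not_primitive {π : Set ℕ} {G H : Subgroup (Perm α)} (h : Hyp π G H)
    (hprim : IsPreprimitive H α)
    {r s : ℕ} (hr : r.Prime) (hs : s.Prime) (hrs : r ≠ s) (hrπ : r ∈ π) (hsπ : s ∈ π)
    (hrn : r ≤ Fintype.card α) (hsn : s ≤ Fintype.card α)
    {o : ℕ} (ho : o.Prime) (hoπ : o ∉ π) (hon : o ≤ Fintype.card α) : False := by
  classical
  haveI := hprim
  set n := Fintype.card α with hn
  have h5 : 5 ≤ n := by
    by_contra hc
    have e : ∀ q, q.Prime → q ≤ n → q = 2 ∨ q = 3 := by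
      intro q hq hqn
      have := hq.two_le
      have : q ≠ 4 := by rintro rfl; norm_num at hq
      omega
    rcases e r hr hrn with rfl | rfl <;> rcases e s hs hsn with rfl | rfl <;>
      rcases e o ho hon with rfl | rfl <;> first | contradiction | exact hrs rfl
  have hno := h.not_alt_le (by omega) ho hon hoπ
  have jordan : ∀ p, p.Prime → p ≠ 2 → p ∈ π → p + 3 ≤ n → False := by
    intro p hp hp2 hpπ hp3
    obtain ⟨c, hcH, hc, hcs⟩ := h.exists_cycle hp hp2 hpπ (by omega)
    exact hno (CfsgLib.Jordan.alternatingGroup_le_of_isCycle hprim hcH hc (hcs ▸ hp) (by omega))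
  have even : 2 ∈ π → 9 ≤ n → False := by
    intro h2 h9
    obtain ⟨Γ, hΓ, htr⟩ := h.four_set h2 (by omega)
    have := CfsgLib.MarggraffAlt.alternatingGroup_le (G := H) hprim Γ (by omega) (by omega) htr
    refine hno (this.trans ?_)
    rintro _ ⟨g, rfl⟩
    exact g.2
  have hdvd : ∀ k : ℕ, IsMultiplyPretransitive H α k → k ≤ n → n.descFactorial k ∣ Nat.card H := by
    intro k hk hkn
    obtain ⟨a⟩ : Nonempty (Fin k ↪ α) := Function.Embedding.nonempty_of_card_le (by simpa using hkn)
    have e : MulAction.orbit H a = Set.univ := Set.eq_univ_of_forall fun b => hk.exists_smul_eq a b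
    have := Subgroup.index_dvd_card (MulAction.stabilizer H a)
    have c1 : (MulAction.stabilizer H a).index = Nat.card (Fin k ↪ α) := by
      rw [MulAction.index_stabilizer]
      exact (congrArg Set.ncard e).trans (Set.ncard_univ _)
    rwa [c1, Nat.card_eq_fintype_card (α := Fin k ↪ α), Fintype.card_embedding_eq, Fintype.card_fin,
      ← hn] at this
  have inπ : ∀ q, q.Prime → q ∣ Nat.card H → q ∈ π := fun q hq hd => h.pi q hq hd
  have htn : n ∣ Nat.card H := by
    obtain ⟨x⟩ : Nonempty α := Fintype.card_pos_iff.1 (by omega)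
    have := Subgroup.index_dvd_card (MulAction.stabilizer H x)
    rwa [MulAction.index_stabilizer_of_transitive, Nat.card_eq_fintype_card, ← hn] at this
  -- no odd prime `p = n - 2`
  have two_fixed : ∀ p, p.Prime → p ≠ 2 → p ∈ π → p + 2 = n → False := by
    intro p hp hp2 hpπ hpn
    obtain ⟨c, hcH, hc, hcs⟩ := h.exists_cycle hp hp2 hpπ (by omega)
    have h3 := hdvd 3 (CfsgLib.Jordan.isMultiplyPretransitive_of_isCycle hprim hcH hc (hcs ▸ hp) 1
      (by omega)) (by omega)
    have e : n.descFactorial 3 = (n - 2) * ((n - 1) * n) := by simp [Nat.descFactorial]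
    rw [e] at h3
    have hodd := hp.eq_two_or_odd
    have h2 : 2 ∈ π := inπ 2 Nat.prime_two
      (dvd_trans (Dvd.dvd.mul_left (Dvd.dvd.mul_right (show 2 ∣ n - 1 by omega) _) _) h3)
    rcases Nat.lt_or_ge n 9 with h9 | h9
    · have h57 : p = 3 ∨ p = 5 := by
        have := hp.two_le
        have : p ≠ 4 := by rintro rfl; norm_num at hp
        have : p ≠ 6 := by rintro rfl; norm_num at hp
        omega
      rcases h57 with rfl | rfl
      · have h5π : 5 ∈ π := inπ 5 (by norm_num) (dvd_trans (by rw [← hpn]; norm_num) h3)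
        have : o ≤ 5 := by omega
        have := ho.two_le
        interval_cases o <;> first | (norm_num at ho; done) | contradiction
      · exact jordan 3 Nat.prime_three (by norm_num)
          (inπ 3 Nat.prime_three (dvd_trans (by rw [← hpn]; norm_num) h3)) (by omega)
    · exact even h2 h9
  have hodd : ∀ q, q.Prime → q ≠ 2 → q ∈ π → q ≤ n → n ≤ q + 1 := by
    intro q hq hq2 hqπ hqn
    by_contra hc
    rcases (show q + 2 = n ∨ q + 3 ≤ n by omega) with e | e
    · exact two_fixed q hq hq2 hqπ e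
    · exact jordan q hq hq2 hqπ e
  obtain ⟨q, hq, hq2, hqπ, hqn, h2⟩ : ∃ q, q.Prime ∧ q ≠ 2 ∧ q ∈ π ∧ q ≤ n ∧ 2 ∈ π := by
    rcases eq_or_ne r 2 with rfl | hr2
    · exact ⟨s, hs, Ne.symm hrs, hsπ, hsn, hrπ⟩
    · rcases eq_or_ne s 2 with rfl | hs2
      · exact ⟨r, hr, hr2, hrπ, hrn, hsπ⟩
      · exfalso
        have := hodd r hr hr2 hrπ hrn
        have := hodd s hs hs2 hsπ hsn
        have := hr.eq_two_or_odd
        have := hs.eq_two_or_odd
        omega
  have hqn' := hodd q hq hq2 hqπ hqn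
  have hn8 : n ≤ 8 := Nat.le_of_not_lt fun h9 => even h2 h9
  have hq57 : q = 5 ∨ q = 7 := by
    have := hq.two_le
    have : q ≠ 4 := by rintro rfl; norm_num at hq
    have : q ≠ 6 := by rintro rfl; norm_num at hq
    have : q ≠ 8 := by rintro rfl; norm_num at hq
    omega
  -- the special degrees
  haveI : Nontrivial α := Fintype.one_lt_card_iff_nontrivial.1 (by omega)
  set A := alternatingGroup α
  have hR : ∀ p, p.Prime → p ∈ π → ¬ p ∣ H.relIndex A := by
    intro p hp hpπ hd
    refine h.index p hp hpπ (hd.trans ?_)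
    rcases h.base with e | e <;> rw [e]
    rw [Subgroup.relIndex_top_right]
    exact relIndex_dvd_of_normal' H A
  set K := H ⊓ A with hK
  have hKR : Nat.card K * H.relIndex A = Nat.card A := by
    have h1 := Subgroup.relIndex_mul_relIndex (⊥ : Subgroup (Perm α)) K A bot_le inf_le_right
    rwa [Subgroup.relIndex_bot_left, Subgroup.relIndex_bot_left, hK, Subgroup.inf_relIndex_right] at h1
  have hKπ : ∀ p, p.Prime → p ∣ Nat.card K → p ∈ π :=
    fun p hp hd => h.pi p hp (hd.trans (Subgroup.card_dvd_of_le inf_le_left))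
  have hA2 : 2 * Nat.card A = n.factorial := by
    rw [two_mul_nat_card_alternatingGroup, Nat.card_perm, Nat.card_eq_fintype_card]
  have cop : ∀ p, p.Prime → p ∈ π → ∀ k, Nat.Coprime (p ^ k) (H.relIndex A) :=
    fun p hp hpπ k => Nat.Coprime.pow_left k ((hp.coprime_iff_not_dvd).2 (hR p hp hpπ))
  have out : ∀ p, p.Prime → p ∉ π → ∀ k, Nat.Coprime (Nat.card K) (p ^ k) :=
    fun p hp hpπ k => Nat.Coprime.pow_right k
      ((hp.coprime_iff_not_dvd.2 fun hd => hpπ (hKπ p hp hd)).symm)
  have h3 : 6 ≤ n → 3 ∉ π := fun h6 h3 => jordan 3 Nat.prime_three (by norm_num) h3 (by omega)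
  have h35 : n = 5 → 3 ∉ π := fun h5' h3 => two_fixed 3 Nat.prime_three (by norm_num) h3 (by omega)
  have hn6 : n ≠ 6 := fun e => h3 e.ge (inπ 3 Nat.prime_three (dvd_trans (by rw [e]; norm_num) htn))
  have h5π : 7 ≤ n → 5 ∉ π := fun h7 h5' => by
    have := hodd 5 (by norm_num) (by norm_num) h5' (by omega)
    omega
  rcases (show n = 5 ∧ q = 5 ∨ n = 7 ∧ q = 7 ∨ n = 8 ∧ q = 7 by omega) with ⟨e, rfl⟩ | e
  · -- degree 5
    have hA60 : Nat.card A = 60 := by rw [e, show Nat.factorial 5 = 120 from rfl] at hA2; omega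
    have h20 : H.relIndex A ∣ 3 := by
      have : H.relIndex A ∣ 3 * (2 ^ 2 * 5 ^ 1) := by
        rw [show 3 * (2 ^ 2 * 5 ^ 1) = Nat.card A by rw [hA60]; norm_num]; exact Dvd.intro_left _ hKR
      exact (((cop 2 Nat.prime_two h2 2).mul_left (cop 5 (by norm_num) hqπ 1)).symm).dvd_of_dvd_mul_right this
    rcases (Nat.dvd_prime Nat.prime_three).1 h20 with e1 | e1
    · rw [e1, hA60, mul_one] at hKR
      exact h35 e (hKπ 3 Nat.prime_three (by rw [hKR]; norm_num))
    · exact no_index_three (α := α) e _ e1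
  · have hq7 : q = 7 := by omega
    subst hq7
    obtain ⟨c, hcH, hc, hcs⟩ := h.exists_cycle hq hq2 hqπ hqn
    have hcK : c ∈ K := ⟨hcH, by
      show c ∈ A
      rw [mem_alternatingGroup, hc.sign, hcs]; decide⟩
    have hnorm : ∀ u ∈ H, ∀ k ∈ K, u * k * u⁻¹ ∈ K := fun u hu k hk => by
      have h1 : k ∈ H := hk.1
      have h2 : u * k * u⁻¹ ∈ H := mul_mem (mul_mem hu h1) (inv_mem hu)
      exact ⟨h2, Subgroup.Normal.conj_mem inferInstance k hk.2 u⟩
    refine seven_false (H := H) inf_le_right inf_le_left hnorm hc hcs hcK ?_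
    rcases e with ⟨e, -⟩ | ⟨e, -⟩
    · left
      refine ⟨e, ?_⟩
      have hA' : Nat.card A = 2 ^ 3 * 7 ^ 1 * (3 ^ 2 * 5 ^ 1) := by
        rw [e, show Nat.factorial 7 = 5040 from rfl] at hA2; omega
      refine Nat.dvd_antisymm ?_ ?_
      · exact Nat.Coprime.dvd_of_dvd_mul_right
          ((out 3 Nat.prime_three (h3 (by omega)) 2).mul_right (out 5 (by norm_num) (h5π (by omega)) 1))
          (show Nat.card K ∣ (2 ^ 3 * 7 ^ 1) * (3 ^ 2 * 5 ^ 1) from hA' ▸ Dvd.intro _ hKR)
      · exact Nat.Coprime.dvd_of_dvd_mul_right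
          ((cop 2 Nat.prime_two h2 3).mul_left (cop 7 (by norm_num) hqπ 1))
          (show 2 ^ 3 * 7 ^ 1 ∣ Nat.card K * H.relIndex A from hKR.symm ▸ hA' ▸ dvd_mul_right _ _)
    · right
      refine ⟨e, ?_⟩
      have hA' : Nat.card A = 2 ^ 6 * 7 ^ 1 * (3 ^ 2 * 5 ^ 1) := by
        rw [e, show Nat.factorial 8 = 40320 from rfl] at hA2; omega
      refine Nat.dvd_antisymm ?_ ?_
      · exact Nat.Coprime.dvd_of_dvd_mul_right
          ((out 3 Nat.prime_three (h3 (by omega)) 2).mul_right (out 5 (by norm_num) (h5π (by omega)) 1))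
          (show Nat.card K ∣ (2 ^ 6 * 7 ^ 1) * (3 ^ 2 * 5 ^ 1) from hA' ▸ Dvd.intro _ hKR)
      · exact Nat.Coprime.dvd_of_dvd_mul_right
          ((cop 2 Nat.prime_two h2 6).mul_left (cop 7 (by norm_num) hqπ 1))
          (show 2 ^ 6 * 7 ^ 1 ∣ Nat.card K * H.relIndex A from hKR.symm ▸ hA' ▸ dvd_mul_right _ _)

end CfsgLib.SymHall
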