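import Cfsg.Prelude.Def_HallClasses
import Cfsg.Agent.FGSA.SymNoHall
import Cfsg.Agent.SymHall.Arith
import Mathlib

/-!
Hall subgroups of symmetric and alternating groups: fibre stabilisers and projections.
-/

set_option autoImplicit false
set_option linter.style.haveILetI false
set_option linter.unusedSectionVars false

namespace CfsgLib.SymHall

open Equiv Equiv.Perm

variable {α : Type*} [Fintype α] [DecidableEq α]

/-- `H` is a Hall π-subgroup of `G`, which is the full symmetric or the alternating group. -/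
structure Hyp (π : Set ℕ) (G H : Subgroup (Perm α)) : Prop where
  base : G = ⊤ ∨ G = alternatingGroup α
  le : H ≤ G
  pi : Cfsg.IsPiSubgroup π H
  index : ∀ p, p.Prime → p ∈ π → ¬ p ∣ H.relIndex G

theorem Hyp.alt_le {π : Set ℕ} {G H : Subgroup (Perm α)} (h : Hyp π G H) : alternatingGroup α ≤ G := by
  rcases h.base with e | e <;> simp [e]

theorem base_of_alt_le {G : Subgroup (Perm α)} (h : alternatingGroup α ≤ G) :
    G = ⊤ ∨ G = alternatingGroup α := by
  by_cases hG : G ≤ alternatingGroup α
  · exact Or.inr (le_antisymm hG h)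
  · left
    obtain ⟨g, hg, hgA⟩ := SetLike.not_le_iff_exists.1 hG
    rw [mem_alternatingGroup] at hgA
    refine eq_top_iff.2 fun σ _ => ?_
    rcases Int.units_eq_one_or (sign σ) with hs | hs
    · exact h (mem_alternatingGroup.2 hs)
    · have hs' : sign g = -1 := (Int.units_eq_one_or (sign g)).resolve_left hgA
      have : σ * g⁻¹ ∈ G := h (mem_alternatingGroup.2 (by rw [map_mul, map_inv, hs, hs']; decide))
      simpa using mul_mem this hg

theorem Hyp.pow_group_conj {π : Set ℕ} {G H E : Subgroup (Perm α)} (h : Hyp π G H) {p : ℕ} (hp : p.Prime)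
    (hpπ : p ∈ π) (hE : IsPGroup p E) (hEG : E ≤ G) :
    ∃ g ∈ G, ∀ e ∈ E, g * e * g⁻¹ ∈ H := by
  haveI := Fact.mk hp
  obtain ⟨g, hg⟩ := CfsgLib.FGSA.SymNoHall.exists_conj_le (E := E.subgroupOf G) (H := H.subgroupOf G)
    (hE.of_equiv (Subgroup.subgroupOfEquivOfLe hEG).symm) (h.index p hp hpπ)
  refine ⟨g, g.2, fun e he => ?_⟩
  have := hg ⟨e, hEG he⟩ (Subgroup.mem_subgroupOf.2 he)
  simpa [Subgroup.mem_subgroupOf] using this

/-- The permutations fixing every fibre of `f`. -/
def part {ι : Type*} (f : α → ι) : Subgroup (Perm α) where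
  carrier := {g | ∀ x, f (g x) = f x}
  one_mem' := fun _ => rfl
  mul_mem' := fun {a b} ha hb x => by rw [Perm.mul_apply, ha, hb]
  inv_mem' := fun {a} ha x => by
    conv_rhs => rw [← show a (a⁻¹ x) = x by simp]
    rw [ha]

/-- The permutations permuting the fibres of `f`. -/
def blk {ι : Type*} (f : α → ι) : Subgroup (Perm α) where
  carrier := {g | ∀ x y, f (g x) = f (g y) ↔ f x = f y}
  one_mem' := fun _ _ => Iff.rfl
  mul_mem' := fun {a b} ha hb x y => (ha _ _).trans (hb _ _)
  inv_mem' := fun {a} ha x y => by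
    rw [← ha]
    simp

variable {ι : Type*}

theorem mem_part {f : α → ι} {g : Perm α} : g ∈ part f ↔ ∀ x, f (g x) = f x := Iff.rfl

theorem mem_blk {f : α → ι} {g : Perm α} :
    g ∈ blk f ↔ ∀ x y, f (g x) = f (g y) ↔ f x = f y := Iff.rfl

theorem part_le_blk (f : α → ι) : part f ≤ blk f := fun _ hg x y => by rw [hg x, hg y]

theorem swap_mem_part {f : α → ι} {x y : α} (h : f x = f y) : swap x y ∈ part f := by
  intro z
  rw [swap_apply_def]
  split_ifs with h1 h2
  · rw [h1, h]
  · rw [h2, h]
  · rfl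

theorem card_part [Fintype ι] [DecidableEq ι] (f : α → ι) :
    Nat.card (part f) = ∏ i, (Nat.card {x // f x = i}).factorial := by
  rw [Nat.card_congr (α := part f) (β := {g : Perm α // f ∘ g = f})
      ⟨fun g => ⟨g.1, funext g.2⟩, fun g => ⟨g.1, fun x => congrFun g.2 x⟩, fun _ => rfl, fun _ => rfl⟩,
    Nat.card_eq_fintype_card,
    DomMulAct.stabilizer_card f]
  simp [Nat.card_eq_fintype_card]

/-- The action of `blk f` on the fibres. -/
noncomputable def blkPerm {f : α → ι} (hf : Function.Surjective f) : blk f →* Perm ι :=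
  have key : ∀ (g : blk f) (x : α), f ((g : Perm α) (Function.surjInv hf (f x))) = f ((g : Perm α) x) :=
    fun g x => (g.2 _ _).2 (Function.surjInv_eq hf (f x))
  MonoidHom.mk' (fun g => ⟨fun i => f ((g : Perm α) (Function.surjInv hf i)),
      fun i => f ((g : Perm α)⁻¹ (Function.surjInv hf i)),
      fun i => by
        have := key g⁻¹ ((g : Perm α) (Function.surjInv hf i))
        simp only [InvMemClass.coe_inv] at this
        dsimp only
        rw [this]
        simp [Function.surjInv_eq hf],
      fun i => by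
        dsimp only
        rw [key]
        simp [Function.surjInv_eq hf]⟩)
    fun g h => Equiv.ext fun i => by
      simp only [Equiv.coe_fn_mk, Perm.mul_apply, Subgroup.coe_mul]
      rw [key]

theorem blkPerm_apply {f : α → ι} (hf : Function.Surjective f) (g : blk f) (x : α) :
    blkPerm hf g (f x) = f ((g : Perm α) x) :=
  (g.2 _ _).2 (Function.surjInv_eq hf (f x))

theorem ker_blkPerm {f : α → ι} (hf : Function.Surjective f) :
    (blkPerm hf).ker = (part f).subgroupOf (blk f) := by
  ext g
  rw [MonoidHom.mem_ker, Subgroup.mem_subgroupOf, mem_part]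
  refine ⟨fun h x => ?_, fun h => Equiv.ext fun i => ?_⟩
  · rw [← blkPerm_apply hf g x, h, Perm.one_apply]
  · obtain ⟨x, rfl⟩ := hf i
    rw [blkPerm_apply, h, Perm.one_apply]

theorem card_blk_dvd [Fintype ι] [DecidableEq ι] {f : α → ι} (hf : Function.Surjective f) :
    Nat.card (blk f) ∣ (Fintype.card ι).factorial * Nat.card (part f) := by
  rw [← (blkPerm hf).ker.index_mul_card, Subgroup.index_ker, ker_blkPerm,
    Nat.card_congr (Subgroup.subgroupOfEquivOfLe (part_le_blk f)).toEquiv]
  refine Nat.mul_dvd_mul_right ?_ _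
  have := Subgroup.card_subgroup_dvd_card (blkPerm hf).range
  rwa [Nat.card_perm, Nat.card_eq_fintype_card (α := ι)] at this

theorem index_dvd_of_odd {π : Set ℕ} {G H W : Subgroup (Perm α)} (h : Hyp π G H) (hHW : H ≤ W)
    {t : Perm α} (ht : t ∈ W) (hts : sign t = -1) : W.index ∣ H.relIndex G := by
  rcases h.base with rfl | rfl
  · rw [Subgroup.relIndex_top_right]; exact Subgroup.index_dvd_of_le hHW
  · have htA : t ∉ alternatingGroup α := by rw [mem_alternatingGroup, hts]; decide
    haveI : Nontrivial α := by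
      by_contra hn
      rw [not_nontrivial_iff_subsingleton] at hn
      exact htA (by rw [Subsingleton.elim t 1]; exact one_mem _)
    have e0 : (alternatingGroup α).index = 2 := alternatingGroup.index_eq_two
    have e1 : (alternatingGroup α).relIndex W = 2 := by
      rcases (Nat.dvd_prime Nat.prime_two).1
        (e0 ▸ Subgroup.relIndex_dvd_index_of_normal (alternatingGroup α) W) with e | e
      · exact absurd (Subgroup.relIndex_eq_one.1 e ht) htA
      · exact e
    have e2 : H.relIndex (alternatingGroup α ⊓ W) * 2 = H.relIndex W := by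
      rw [← e1, ← Subgroup.inf_relIndex_right (alternatingGroup α) W]
      exact Subgroup.relIndex_mul_relIndex _ _ _ (le_inf h.le hHW) inf_le_right
    have e3 := Subgroup.relIndex_mul_index h.le
    rw [e0, ← Subgroup.relIndex_mul_index hHW, ← e2] at e3
    exact ⟨H.relIndex (alternatingGroup α ⊓ W), by nlinarith⟩

theorem relIndex_dvd_of_normal' {M : Type*} [Group M] [Finite M] (H N : Subgroup M) [N.Normal] :
    H.relIndex N ∣ H.index := by
  have e : H.relIndex N = H.relIndex (H ⊔ N) := by
    have h1 := Subgroup.relIndex_mul_relIndex (⊥ : Subgroup M) (H ⊓ N) N bot_le inf_le_right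
    have h2 := Subgroup.relIndex_mul_relIndex (⊥ : Subgroup M) H (H ⊔ N) bot_le le_sup_left
    have h3 := Subgroup.relIndex_mul_relIndex (⊥ : Subgroup M) N (H ⊔ N) bot_le le_sup_right
    have h4 := Subgroup.relIndex_mul_relIndex (⊥ : Subgroup M) (H ⊓ N) H bot_le inf_le_left
    have h5 : N.relIndex (H ⊔ N) = N.relIndex H := Subgroup.relIndex_sup_right H N
    simp only [Subgroup.relIndex_bot_left, Subgroup.inf_relIndex_right, Subgroup.inf_relIndex_left] at h1 h2 h3 h4
    rw [h5] at h3
    have h6 : 0 < Nat.card (H ⊓ N : Subgroup M) * N.relIndex H := by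
      rw [h4]; exact Nat.card_pos
    refine Nat.eq_of_mul_eq_mul_left h6 ?_
    calc Nat.card (H ⊓ N : Subgroup M) * N.relIndex H * H.relIndex N
        = Nat.card (H ⊓ N : Subgroup M) * H.relIndex N * N.relIndex H := by ring
      _ = Nat.card (H ⊔ N : Subgroup M) := by rw [h1, h3]
      _ = _ := by rw [h4, h2]
  rw [e]
  exact Dvd.intro _ (Subgroup.relIndex_mul_index le_sup_left)

/-- Restriction to a fibre. -/
def restr (f : α → ι) (i : ι) : part f →* Perm {x // f x = i} where
  toFun g := (g : Perm α).subtypePerm fun x => by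
    constructor <;> intro h
    · rwa [← g.2 x]
    · rwa [g.2 x]
  map_one' := by ext x; rfl
  map_mul' _ _ := by ext x; rfl

/-- Projecting a Hall subgroup to a fibre. -/
theorem Hyp.proj [DecidableEq ι] {π : Set ℕ} {G H : Subgroup (Perm α)} (h : Hyp π G H) {f : α → ι}
    (hHf : H ≤ blk f) (i : ι) :
    ∃ G' H' : Subgroup (Perm {x // f x = i}), Hyp π G' H' := by
  set N := G ⊓ part f
  set W := G ⊓ blk f
  have hNW : N ≤ W := inf_le_inf_left _ (part_le_blk f)
  haveI : (N.subgroupOf W).Normal := by
    refine ⟨fun n hn g => ?_⟩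
    obtain ⟨hnG, hnf⟩ := Subgroup.mem_subgroupOf.1 hn
    have hgG : (g : Perm α) ∈ G := g.2.1
    have hgf : (g : Perm α) ∈ blk f := g.2.2
    have h2 : (g : Perm α) * n * (g : Perm α)⁻¹ ∈ G := mul_mem (mul_mem hgG hnG) (inv_mem hgG)
    refine Subgroup.mem_subgroupOf.2 ⟨h2, fun x => ?_⟩
    have h1 := (hgf ((n : Perm α) ((g : Perm α)⁻¹ x)) ((g : Perm α)⁻¹ x)).2 (hnf _)
    simpa using h1
  have hHN : H.relIndex N ∣ H.relIndex G := by
    refine dvd_trans ?_ (Dvd.intro _ (Subgroup.relIndex_mul_relIndex H W G (le_inf h.le hHf) inf_le_left))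
    rw [← Subgroup.relIndex_subgroupOf (H := H) hNW]
    exact relIndex_dvd_of_normal' (H.subgroupOf W) (N.subgroupOf W)
  let ψ : N →* Perm {x // f x = i} := (restr f i).comp (Subgroup.inclusion (inf_le_right : N ≤ part f))
  refine ⟨ψ.range, (H.subgroupOf N).map ψ, ⟨base_of_alt_le fun σ hσ => ?_, Subgroup.map_le_range _ _, ?_, ?_⟩⟩
  · have hτ : Perm.ofSubtype σ ∈ N := by
      refine ⟨h.alt_le ?_, fun x => ?_⟩
      · rw [mem_alternatingGroup, sign_ofSubtype, ← mem_alternatingGroup]; exact hσ
      · by_cases hx : f x = i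
        · rw [ofSubtype_apply_of_mem σ hx, hx]; exact (σ ⟨x, hx⟩).2
        · rw [ofSubtype_apply_of_not_mem σ hx]
    refine ⟨⟨_, hτ⟩, Equiv.ext fun x => Subtype.ext ?_⟩
    exact ofSubtype_apply_coe σ x
  · intro p hp hd
    refine h.pi p hp (hd.trans ((Subgroup.card_map_dvd _ _).trans ?_))
    exact Subgroup.card_comap_dvd_of_injective H N.subtype N.subtype_injective
  · intro p hp hpπ hd
    refine h.index p hp hpπ (hd.trans (dvd_trans ?_ hHN))
    have e : ((H.subgroupOf N).map ψ).subgroupOf ψ.range = (H.subgroupOf N).map ψ.rangeRestrict := by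
      ext ⟨y, hy⟩
      simp [Subgroup.mem_subgroupOf, Subgroup.mem_map, Subtype.ext_iff]
    rw [Subgroup.relIndex, e]
    exact Subgroup.index_map_dvd _ ψ.rangeRestrict_surjective

end CfsgLib.SymHall
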